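import Groth.Agent.FibreP.Good
import Groth.Agent.FlatAscent.Fibres
import Groth.Agent.FormalFibre.FlatCompletion
import Groth.Agent.GRing17.Maximal
import Groth.Agent.GRing17.Complete
import Groth.Agent.PP16Lib.RegularCompletion

/-!
# Fibre conditions for a good property
-/

universe u

open IsLocalRing TensorProduct

namespace Groth.Agent.FibreP

variable (P : ∀ (R : Type u) [CommRing R], Prop)

/-- All fibres have `P` geometrically. -/
def GeomFib (A B : Type u) [CommRing A] [CommRing B] [Algebra A B] : Prop :=
  ∀ (p : Ideal A) [p.IsPrime] (K : Type u) [Field K] [Algebra p.ResidueField K],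
    Module.Finite p.ResidueField K → P (K ⊗[p.ResidueField] p.Fiber B)

/-- The closed fibres have `P` geometrically. -/
def ClosedFib (A B : Type u) [CommRing A] [CommRing B] [Algebra A B] : Prop :=
  ∀ (K : Type u) [Field K] [Algebra A K] [Module.Finite A K], P (K ⊗[A] B)

variable {P}

theorem isNoetherianRing_tensor (A B K : Type u) [CommRing A] [CommRing B] [CommRing K] [Algebra A B]
    [Algebra A K] [Algebra.EssFiniteType A K] [IsNoetherianRing B] : IsNoetherianRing (K ⊗[A] B) := by
  have := Algebra.EssFiniteType.isNoetherianRing B (B ⊗[A] K)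
  exact isNoetherianRing_of_ringEquiv (B ⊗[A] K) (Algebra.TensorProduct.comm A B K).toRingEquiv

/-- `P` can be checked on the localizations at the maximal ideals of a base. -/
theorem Good.of_forall_maximal (hP : Good P) {B T : Type u} [CommRing B] [CommRing T] [Algebra B T]
    [IsNoetherianRing T] (h : ∀ n : Ideal B, ∀ [n.IsMaximal], P (T ⊗[B] Localization.AtPrime n)) : P T := by
  refine hP.of_local T fun Q _ => ?_
  obtain ⟨n, hn, hQn⟩ := Ideal.exists_le_maximal (Q.comap (algebraMap B T)) (Ideal.IsPrime.comap _).ne_top
  let M := Algebra.algebraMapSubmonoid T n.primeCompl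
  let Tn := T ⊗[B] Localization.AtPrime n
  have : IsLocalization M Tn := inferInstance
  have : IsNoetherianRing Tn := IsLocalization.isNoetherianRing M Tn inferInstance
  have hd : Disjoint (M : Set T) Q := Set.disjoint_left.mpr fun z hz hzQ => by
    obtain ⟨b, hb, rfl⟩ := hz
    exact hb (hQn hzQ)
  let Q' := Q.map (algebraMap T Tn)
  have : Q'.IsPrime := IsLocalization.isPrime_of_isPrime_disjoint M Tn Q inferInstance hd
  have hQ' : Q'.under T = Q := IsLocalization.under_map_of_isPrime_disjoint M Tn ‹Q.IsPrime› hd
  have hloc := IsLocalization.isLocalization_isLocalization_atPrime_isLocalization M (Localization.AtPrime Q') Q'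
  have hloc' : IsLocalization Q.primeCompl (Localization.AtPrime Q') := by
    simpa [hQ', Ideal.under_def] using hloc
  exact hP.iso _ _ (IsLocalization.algEquiv Q.primeCompl (Localization.AtPrime Q') (Localization.AtPrime Q)).toRingEquiv
    (hP.localization Tn (Localization.AtPrime Q') Q'.primeCompl (h n))

/-- From `k' ⊗ B` to the fibre form. -/
theorem Good.geomFib_mk (hP : Good P) {A B : Type u} [CommRing A] [CommRing B] [Algebra A B]
    (h : ∀ (p : Ideal A) [p.IsPrime] (K : Type u) [Field K] [Algebra p.ResidueField K] [Algebra A K]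
      [IsScalarTower A p.ResidueField K], Module.Finite p.ResidueField K → P (K ⊗[A] B)) : GeomFib P A B := by
  intro p _ K _ _ hK
  let _ : Algebra A K := ((algebraMap p.ResidueField K).comp (algebraMap A p.ResidueField)).toAlgebra
  have : IsScalarTower A p.ResidueField K := .of_algebraMap_eq fun _ => rfl
  exact hP.iso _ _ (Algebra.TensorProduct.cancelBaseChange A p.ResidueField K K B).symm.toRingEquiv (h p K hK)

theorem Good.geomFib_apply (hP : Good P) {A B : Type u} [CommRing A] [CommRing B] [Algebra A B]
    (h : GeomFib P A B) (p : Ideal A) [p.IsPrime] (K : Type u) [Field K] [Algebra p.ResidueField K] [Algebra A K]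
    [IsScalarTower A p.ResidueField K] [Module.Finite p.ResidueField K] : P (K ⊗[A] B) :=
  hP.iso _ _ (Algebra.TensorProduct.cancelBaseChange A p.ResidueField K K B).toRingEquiv (h p K inferInstance)

/-- Regular homomorphisms have geometrically `P` fibres. -/
theorem Good.geomFib_of_isRegularHom (hP : Good P) {A B : Type u} [CommRing A] [CommRing B] [Algebra A B]
    (h : CAlg.IsRegularHom A B) : GeomFib P A B :=
  fun p _ K _ _ hK => hP.regular _ ((h.2 p).2 K hK)

theorem Good.geomFib_comp (hP : Good P) {A B C : Type u} [CommRing A] [CommRing B] [CommRing C]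
    [IsNoetherianRing B] [IsNoetherianRing C] [Algebra A B] [Algebra B C] [Algebra A C] [IsScalarTower A B C]
    [Module.Flat B C] (hAB : GeomFib P A B) (hBC : GeomFib P B C) : GeomFib P A C := by
  intro p _ K _ _ hK
  let _ : Algebra A K := ((algebraMap p.ResidueField K).comp (algebraMap A p.ResidueField)).toAlgebra
  have : IsScalarTower A p.ResidueField K := .of_algebraMap_eq fun _ => rfl
  have : Algebra.EssFiniteType A K := Algebra.EssFiniteType.comp A p.ResidueField K
  have := isNoetherianRing_tensor A B K
  have := isNoetherianRing_tensor A C K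
  have h1 : IsNoetherianRing (K ⊗[p.ResidueField] p.Fiber B) := isNoetherianRing_of_ringEquiv _
    (Algebra.TensorProduct.cancelBaseChange A p.ResidueField K K B).symm.toRingEquiv
  have h2 : IsNoetherianRing (K ⊗[p.ResidueField] p.Fiber C) := isNoetherianRing_of_ringEquiv _
    (Algebra.TensorProduct.cancelBaseChange A p.ResidueField K K C).symm.toRingEquiv
  exact FlatAscent.exists_base_change A B C p K h1 h2 P hP.iso (fun q _ L _ _ hL => hBC q L hL) (hAB p K hK) hP.asc

theorem Good.geomFib_desc (hP : Good P) {A B C : Type u} [CommRing A] [CommRing B] [CommRing C]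
    [IsNoetherianRing C] [Algebra A B] [Algebra B C] [Algebra A C] [IsScalarTower A B C]
    [Module.FaithfullyFlat B C] (hAC : GeomFib P A C) : GeomFib P A B := by
  intro p _ K _ _ hK
  let _ : Algebra A K := ((algebraMap p.ResidueField K).comp (algebraMap A p.ResidueField)).toAlgebra
  have : IsScalarTower A p.ResidueField K := .of_algebraMap_eq fun _ => rfl
  have : Algebra.EssFiniteType A K := Algebra.EssFiniteType.comp A p.ResidueField K
  let R := B ⊗[A] K
  let T := R ⊗[B] C
  let eT : K ⊗[A] C ≃+* T :=
    (Algebra.TensorProduct.comm A K C).toRingEquiv.trans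
      ((Algebra.TensorProduct.cancelBaseChange A B C C K).symm.toRingEquiv.trans
        (Algebra.TensorProduct.comm B C R).toRingEquiv)
  have := isNoetherianRing_tensor A C K
  have : IsNoetherianRing T := isNoetherianRing_of_ringEquiv _ eT
  have hT : P T := hP.iso _ _ eT (hP.geomFib_apply hAC p K)
  exact hP.iso _ _ ((Algebra.TensorProduct.comm A B K).toRingEquiv.trans
    (Algebra.TensorProduct.cancelBaseChange A p.ResidueField K K B).symm.toRingEquiv) (hP.desc R T hT)

/-- A field finite over a local ring lives over the residue field. -/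
theorem exists_residue_algebra {A K : Type u} [CommRing A] [IsLocalRing A] [Field K] [Algebra A K]
    [Module.Finite A K] :
    ∃ alg : Algebra (maximalIdeal A).ResidueField K,
      letI := alg
      IsScalarTower A (maximalIdeal A).ResidueField K ∧ Module.Finite (maximalIdeal A).ResidueField K := by
  have hint : (algebraMap A K).IsIntegral := algebraMap_isIntegral_iff.mpr inferInstance
  have hmax : (RingHom.ker (algebraMap A K)).IsMaximal := by
    rw [RingHom.ker_eq_comap_bot]
    have : (⊥ : Ideal K).IsMaximal := Ideal.bot_isMaximal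
    exact Ideal.isMaximal_comap_of_isIntegral_of_isMaximal' (algebraMap A K) hint ⊥
  have hm : RingHom.ker (algebraMap A K) = maximalIdeal A := IsLocalRing.eq_maximalIdeal hmax
  let σ : (maximalIdeal A).ResidueField →+* K := RingHom.liftOfSurjective (algebraMap A _)
    (Ideal.algebraMap_residueField_surjective _) ⟨algebraMap A K, fun a ha =>
      (hm.symm ▸ (Ideal.algebraMap_residueField_eq_zero.mp ha) : a ∈ RingHom.ker (algebraMap A K))⟩
  letI := σ.toAlgebra
  have : IsScalarTower A (maximalIdeal A).ResidueField K := IsScalarTower.of_algebraMap_eq fun a =>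
    (RingHom.liftOfRightInverse_comp_apply _ _ (Function.rightInverse_surjInv
      (Ideal.algebraMap_residueField_surjective _)) ⟨algebraMap A K, fun a ha =>
        (hm.symm ▸ (Ideal.algebraMap_residueField_eq_zero.mp ha) : a ∈ RingHom.ker (algebraMap A K))⟩ a).symm
  exact ⟨σ.toAlgebra, this, Module.Finite.of_restrictScalars_finite A _ K⟩

theorem Good.closedFib_comp (hP : Good P) {A B C : Type u} [CommRing A] [IsLocalRing A] [CommRing B]
    [CommRing C] [IsNoetherianRing B] [IsNoetherianRing C] [Algebra A B] [Algebra B C] [Algebra A C]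
    [IsScalarTower A B C] [Module.Flat B C] (hAB : ClosedFib P A B) (hBC : GeomFib P B C) :
    ClosedFib P A C := by
  intro K _ _ hK
  obtain ⟨alg, htow, hfin⟩ := exists_residue_algebra (A := A) (K := K)
  letI := alg
  haveI := htow
  haveI := hfin
  let m := maximalIdeal A
  have := isNoetherianRing_tensor A B K
  have := isNoetherianRing_tensor A C K
  have h1 : IsNoetherianRing (K ⊗[m.ResidueField] m.Fiber B) := isNoetherianRing_of_ringEquiv _
    (Algebra.TensorProduct.cancelBaseChange A m.ResidueField K K B).symm.toRingEquiv
  have h2 : IsNoetherianRing (K ⊗[m.ResidueField] m.Fiber C) := isNoetherianRing_of_ringEquiv _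
    (Algebra.TensorProduct.cancelBaseChange A m.ResidueField K K C).symm.toRingEquiv
  exact hP.iso _ _ (Algebra.TensorProduct.cancelBaseChange A m.ResidueField K K C).toRingEquiv
    (FlatAscent.exists_base_change A B C m K h1 h2 P hP.iso (fun q _ L _ _ hL => hBC q L hL)
      (hP.iso _ _ (Algebra.TensorProduct.cancelBaseChange A m.ResidueField K K B).symm.toRingEquiv (hAB K)) hP.asc)

/-- Closed fibres over `A` and over its completion (or any base with the same residue field and `m A' = m'`). -/
theorem Good.closedFib_of_residue (hP : Good P) {A A' C : Type u} [CommRing A] [CommRing A'] [IsLocalRing A']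
    [CommRing C] [Algebra A A'] [Algebra A' C] [Algebra A C] [IsScalarTower A A' C]
    (I : Ideal A) (hI : I.map (algebraMap A A') = maximalIdeal A')
    (hres : Function.Surjective ((residue A').comp (algebraMap A A')))
    (h : ClosedFib P A C) : ClosedFib P A' C := by
  intro K _ _ hK
  let _ : Algebra A K := ((algebraMap A' K).comp (algebraMap A A')).toAlgebra
  have : IsScalarTower A A' K := .of_algebraMap_eq fun _ => rfl
  obtain ⟨alg, htow, -⟩ := exists_residue_algebra (A := A') (K := K)
  letI := alg
  haveI := htow
  have hm0 : ∀ z ∈ maximalIdeal A', algebraMap A' K z = 0 := fun z hz => by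
    rw [IsScalarTower.algebraMap_apply A' (maximalIdeal A').ResidueField K,
      Ideal.algebraMap_residueField_eq_zero.mpr hz, map_zero]
  have hsurj : ∀ z : A', ∃ a : A, algebraMap A K a = algebraMap A' K z ∧ z - algebraMap A A' a ∈ maximalIdeal A' := by
    intro z
    obtain ⟨a, ha⟩ := hres (residue A' z)
    have hmem : z - algebraMap A A' a ∈ maximalIdeal A' := by
      rw [← residue_eq_zero_iff, map_sub, sub_eq_zero]; exact ha.symm
    refine ⟨a, ?_, hmem⟩
    have := hm0 _ hmem
    rw [map_sub, sub_eq_zero] at this
    exact this.symm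
  have : Module.Finite A K := by
    obtain ⟨S, hS⟩ := hK.fg_top
    refine ⟨⟨S, eq_top_iff.mpr fun c _ => ?_⟩⟩
    have hc : c ∈ Submodule.span A' (S : Set K) := hS ▸ Submodule.mem_top
    induction hc using Submodule.span_induction with
    | mem u hu => exact Submodule.subset_span hu
    | zero => exact zero_mem _
    | add u v _ _ hu hv => exact add_mem (hu trivial) (hv trivial)
    | smul r u _ hu =>
      obtain ⟨a, ha, -⟩ := hsurj r
      rw [Algebra.smul_def, ← ha, ← Algebra.smul_def]
      exact Submodule.smul_mem _ _ (hu trivial)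
  have : CompatibleSMul A A' K C := ⟨fun r x y => by
    obtain ⟨a, -, hmem⟩ := hsurj r
    rw [← hI] at hmem
    have key : ∀ μ ∈ I.map (algebraMap A A'), ∀ y : C, μ • x = 0 ∧ x ⊗ₜ[A] (μ • y) = 0 := by
      intro μ hμ
      induction hμ using Submodule.span_induction with
      | mem w hw =>
        obtain ⟨b, hb, rfl⟩ := hw
        intro y
        have h0 : b • x = 0 := by
          rw [Algebra.smul_def, IsScalarTower.algebraMap_apply A A' K,
            hm0 _ (hI ▸ Ideal.mem_map_of_mem _ hb), zero_mul]
        rw [algebraMap_smul, algebraMap_smul, ← TensorProduct.smul_tmul, h0, TensorProduct.zero_tmul]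
        exact ⟨rfl, rfl⟩
      | zero => intro y; simp
      | add u v _ _ hu hv =>
        intro y
        rw [add_smul, add_smul, TensorProduct.tmul_add, (hu y).1, (hu y).2, (hv y).1, (hv y).2, add_zero, add_zero]
        exact ⟨rfl, rfl⟩
      | smul r u _ hu =>
        intro y
        refine ⟨by rw [smul_assoc, (hu y).1, smul_zero], ?_⟩
        rw [smul_eq_mul, mul_comm, mul_smul]
        exact (hu (r • y)).2
    have h1 := key _ hmem y
    rw [sub_smul, sub_smul, TensorProduct.tmul_sub, sub_eq_zero, sub_eq_zero] at h1
    rw [h1.1, h1.2, algebraMap_smul, algebraMap_smul, TensorProduct.smul_tmul]⟩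
  exact hP.iso _ _ (Algebra.TensorProduct.equivOfCompatibleSMul A A' A K C).symm.toRingEquiv (h K)

theorem residue_comp_completion_surjective (A : Type u) [CommRing A] [IsLocalRing A] [IsNoetherianRing A] :
    Function.Surjective ((residue (EGA4.Cpl A)).comp (algebraMap A (EGA4.Cpl A))) := fun c => by
  obtain ⟨z, rfl⟩ := residue_surjective c
  obtain ⟨x, hx⟩ := PP16Lib.exists_sub_mem_map_pow (maximalIdeal A) 1 z
  refine ⟨x, ?_⟩
  rw [RingHom.comp_apply, ← sub_eq_zero, ← map_sub, residue_eq_zero_iff, AdicCompletion.maximalIdeal_eq_map]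
  rwa [pow_one] at hx

theorem finite_residueField_of_surjective {A A' B B' : Type u} [CommRing A] [CommRing A'] [CommRing B] [CommRing B']
    [IsLocalRing A] [IsLocalRing A'] [IsLocalRing B] [IsLocalRing B'] [Algebra A B] [Algebra A' B'] [Algebra A A']
    [Algebra B B'] [Algebra A B'] [IsScalarTower A A' B'] [IsScalarTower A B B']
    [IsLocalHom (algebraMap A B)] [IsLocalHom (algebraMap A' B')] [IsLocalHom (algebraMap B B')]
    (hresB : Function.Surjective ((residue B').comp (algebraMap B B')))
    [Module.Finite (ResidueField A) (ResidueField B)] :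
    Module.Finite (ResidueField A') (ResidueField B') := by
  classical
  obtain ⟨t, ht⟩ := (inferInstance : Module.Finite (ResidueField A) (ResidueField B)).fg_top
  let f : ResidueField B →+* ResidueField B' := ResidueField.map (algebraMap B B')
  refine ⟨⟨t.image f, eq_top_iff.mpr fun c _ => ?_⟩⟩
  obtain ⟨b, rfl⟩ := hresB c
  have key : ∀ u ∈ Submodule.span (ResidueField A) (t : Set (ResidueField B)),
      f u ∈ Submodule.span (ResidueField A') ((t.image f : Finset _) : Set (ResidueField B')) := by
    intro u hu
    induction hu using Submodule.span_induction with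
    | mem u hu => exact Submodule.subset_span (Finset.mem_coe.mpr (Finset.mem_image_of_mem _ hu))
    | zero => rw [map_zero]; exact zero_mem _
    | add u v _ _ hu hv => rw [map_add]; exact add_mem hu hv
    | smul r u _ hu =>
      obtain ⟨a, rfl⟩ := residue_surjective r
      rw [Algebra.smul_def, map_mul]
      rw [show f (algebraMap (ResidueField A) (ResidueField B) (residue A a)) =
        algebraMap (ResidueField A') (ResidueField B') (residue A' (algebraMap A A' a)) by
          show residue B' (algebraMap B B' (algebraMap A B a)) = residue B' (algebraMap A' B' (algebraMap A A' a))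
          rw [← IsScalarTower.algebraMap_apply, ← IsScalarTower.algebraMap_apply], ← Algebra.smul_def]
      exact Submodule.smul_mem _ _ hu
  exact key (residue B b) (ht ▸ Submodule.mem_top)

/-- The completion map of a complete local ring is regular. -/
theorem isRegularHom_completion_of_complete (A : Type u) [CommRing A] [IsLocalRing A] [IsNoetherianRing A]
    [IsAdicComplete (maximalIdeal A) A] : CAlg.IsRegularHom A (EGA4.Cpl A) := by
  have h1 : CAlg.IsRegularHom A A := @GRing17.isRegularHom_of_isLocalization A A _ _ _ (⊥ : Submonoid A) (IsLocalization.self (M := (⊥ : Submonoid A)) fun x hx => by rw [Submonoid.mem_bot.mp hx]; exact isUnit_one)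
  exact FlatAscent.isRegularHom_congr ((AdicCompletion.ofAlgEquiv (maximalIdeal A)).restrictScalars A) h1

end Groth.Agent.FibreP
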