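import Groth.Agent.FibreP.Main

/-!
# The fibre theorem EGA IV 7.5.1 for a good property
-/

universe u

open IsLocalRing TensorProduct

namespace Groth.Agent.FibreP

variable {P : ∀ (R : Type u) [CommRing R], Prop}

/-- Fibre form of the closed-fibre hypothesis. -/
theorem Good.closedFib_of_fiber (hP : Good P) {A C : Type u} [CommRing A] [IsLocalRing A] [CommRing C] [Algebra A C]
    (h : ∀ (K : Type u) [Field K] [Algebra (maximalIdeal A).ResidueField K],
      Module.Finite (maximalIdeal A).ResidueField K →
        P (K ⊗[(maximalIdeal A).ResidueField] (maximalIdeal A).Fiber C)) : ClosedFib P A C := by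
  intro K _ _ _
  obtain ⟨alg, htow, hfin⟩ := exists_residue_algebra (A := A) (K := K)
  letI := alg
  haveI := htow
  exact hP.iso _ _ (Algebra.TensorProduct.cancelBaseChange A (maximalIdeal A).ResidueField K K C).toRingEquiv (h K hfin)

/-- EGA IV 7.5.1: from the formal fibres of the base and the completed closed fibre to all fibres. -/
theorem Good.geomFib_of_closed (hP : Good P) {A B : Type u} [CommRing A] [CommRing B] [IsLocalRing A] [IsLocalRing B]
    [IsNoetherianRing A] [IsNoetherianRing B] [Algebra A B] [IsLocalHom (algebraMap A B)] [Module.Flat A B]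
    [Module.Finite (ResidueField A) (ResidueField B)]
    (hA : GeomFib P A (EGA4.Cpl A)) (h : ClosedFib P A (EGA4.Cpl B)) : GeomFib P A B := by
  have := CohenStruct.isNoetherianRing_completion A
  have := CohenStruct.isNoetherianRing_completion B
  let Ah := EGA4.Cpl A
  let Bh := EGA4.Cpl B
  obtain ⟨alg, htow, hff⟩ := FormalFibre.exists_faithfullyFlat_cplMap (C := A) (D := B)
  letI := alg
  haveI := htow
  haveI := hff
  have : IsLocalHom (algebraMap Ah Bh) := ((local_hom_TFAE _).out 2 0).mp (by
    rw [AdicCompletion.maximalIdeal_eq_map (R := A), AdicCompletion.maximalIdeal_eq_map (R := B), Ideal.map_map,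
      ← IsScalarTower.algebraMap_eq, IsScalarTower.algebraMap_eq A B (EGA4.Cpl B), ← Ideal.map_map]
    exact Ideal.map_mono (((local_hom_TFAE _).out 0 2).mp ‹IsLocalHom (algebraMap A B)›))
  have : Module.Finite (ResidueField Ah) (ResidueField Bh) :=
    finite_residueField_of_surjective (A := A) (B := B) (residue_comp_completion_surjective B)
  have hcl : ClosedFib P Ah Bh := hP.closedFib_of_residue (maximalIdeal A)
    (AdicCompletion.maximalIdeal_eq_map).symm (residue_comp_completion_surjective A) h
  obtain ⟨d, hd⟩ : ∃ d : ℕ, ringKrullDim Ah ≤ (d : WithBot ℕ∞) := by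
    obtain ⟨d, hd⟩ := ENat.ne_top_iff_exists.mp (Ideal.height_ne_top (maximalIdeal.isMaximal Ah).ne_top)
    exact ⟨d, by rw [← IsLocalRing.maximalIdeal_height_eq_ringKrullDim, ← hd]; rfl⟩
  have hfib : GeomFib P Ah Bh := hP.geomFib_mk fun r _ L _ _ _ _ hL =>
    hP.tensor_of_genFib (hP.genFib d) hcl r
      ((ringKrullDim_le_of_surjective _ Ideal.Quotient.mk_surjective).trans hd) L
  have : Module.FaithfullyFlat B Bh := Module.FaithfullyFlat.of_flat_of_isLocalHom
  exact hP.geomFib_desc (hP.geomFib_comp hA hfib)

/-- The complete case. -/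
theorem Good.geomFib_of_closed_complete (hP : Good P) {A B : Type u} [CommRing A] [CommRing B] [IsLocalRing A]
    [IsLocalRing B] [IsNoetherianRing A] [IsNoetherianRing B] [IsAdicComplete (maximalIdeal A) A]
    [IsAdicComplete (maximalIdeal B) B] [Algebra A B] [IsLocalHom (algebraMap A B)] [Module.Flat A B]
    [Module.Finite (ResidueField A) (ResidueField B)] (h : ClosedFib P A B) : GeomFib P A B := by
  obtain ⟨d, hd⟩ : ∃ d : ℕ, ringKrullDim A ≤ (d : WithBot ℕ∞) := by
    obtain ⟨d, hd⟩ := ENat.ne_top_iff_exists.mp (Ideal.height_ne_top (maximalIdeal.isMaximal A).ne_top)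
    exact ⟨d, by rw [← IsLocalRing.maximalIdeal_height_eq_ringKrullDim, ← hd]; rfl⟩
  exact hP.geomFib_mk fun r _ L _ _ _ _ hL => hP.tensor_of_genFib (hP.genFib d) h r
    ((ringKrullDim_le_of_surjective _ Ideal.Quotient.mk_surjective).trans hd) L

/-- Artinian rings are Cohen-Macaulay. -/
theorem isCohenMacaulayRing_of_isArtinianRing (R : Type u) [CommRing R] [IsArtinianRing R] :
    LocCoh.IsCohenMacaulayRing R := by
  refine cm_of_hasSk fun k => FlatSerre.hasSk_iff_forall_skLoc.mpr fun p _ => ?_
  unfold FlatSerre.SkLoc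
  rw [IsLocalization.AtPrime.ringKrullDim_eq_height p, Ideal.height_eq_zero_iff.mpr (IsArtinianRing.mem_minimalPrimes (bot_le : ⊥ ≤ p))]
  exact (min_le_right _ _).trans (by exact_mod_cast bot_le)

/-- Cohen-Macaulay rings stay so under finite extensions of a ground field. -/
theorem isCohenMacaulayRing_tensor_field {κ F : Type u} [Field κ] [CommRing F] [Algebra κ F] [IsNoetherianRing F]
    (K : Type u) [Field K] [Algebra κ K] [Module.Finite κ K] (hF : LocCoh.IsCohenMacaulayRing F) :
    LocCoh.IsCohenMacaulayRing (K ⊗[κ] F) := by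
  let T := F ⊗[κ] K
  have : IsNoetherianRing T := IsNoetherianRing.of_finite F T
  refine good_isCohenMacaulayRing.iso _ _ (Algebra.TensorProduct.comm κ F K).toRingEquiv
    (good_isCohenMacaulayRing.asc F T hF fun Q _ => ?_)
  have : IsArtinianRing (Q.Fiber T) := IsArtinianRing.of_finite Q.ResidueField _
  exact isCohenMacaulayRing_of_isArtinianRing _

end Groth.Agent.FibreP
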