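import Groth.Agent.FlatAscent.Descent
import Groth.Agent.FlatAscent.NormalLocal
import Groth.Agent.FlatSerre.Basic
import Groth.Agent.S9437
import Groth.Agent.Catenary.CM
import Groth.Agent.DepthLib.CohenMacaulay

/-!
# Properties of rings usable in the fibre theorem EGA IV 7.5.1: reduced, normal, Cohen-Macaulay
-/

universe u

open IsLocalRing TensorProduct

namespace Groth.Agent.FibreP

/-- The permanences needed of a property of Noetherian rings. -/
structure Good (P : ∀ (R : Type u) [CommRing R], Prop) : Prop where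
  iso : ∀ (R S : Type u) [CommRing R] [CommRing S], (R ≃+* S) → P R → P S
  localization : ∀ (R S : Type u) [CommRing R] [CommRing S] [Algebra R S] [IsNoetherianRing R] (M : Submonoid R)
    [IsLocalization M S], P R → P S
  of_local : ∀ (R : Type u) [CommRing R] [IsNoetherianRing R],
    (∀ (q : Ideal R) [q.IsPrime], P (Localization.AtPrime q)) → P R
  desc : ∀ (R T : Type u) [CommRing R] [CommRing T] [IsNoetherianRing T] [Algebra R T]
    [Module.FaithfullyFlat R T], P T → P R
  asc : ∀ (R T : Type u) [CommRing R] [CommRing T] [IsNoetherianRing R] [IsNoetherianRing T]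
    [Algebra R T] [Module.Flat R T], P R → (∀ (Q : Ideal R) [Q.IsPrime], P (Q.Fiber T)) → P T
  lift : ∀ (R : Type u) [CommRing R] [IsNoetherianRing R] [IsLocalRing R] (x : R),
    x ∈ maximalIdeal R → x ∈ nonZeroDivisors R → P (R ⧸ Ideal.span {x}) → P R
  regular : ∀ (R : Type u) [CommRing R], IsRegularRing R → P R

/-- Powers of a non-unit have zero intersection. -/
theorem exists_eq_pow_mul {R : Type u} [CommRing R] [IsNoetherianRing R] [IsLocalRing R] {x : R}
    (hx : x ∈ maximalIdeal R) {a : R} (ha : a ≠ 0) :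
    ∃ (n : ℕ) (b : R), a = x ^ n * b ∧ b ∉ Ideal.span {x} := by
  classical
  have h : ∃ N, a ∉ Ideal.span {x} ^ N := by
    by_contra h
    push Not at h
    have hmem : a ∈ (⊥ : Ideal R) := by
      rw [← Ideal.iInf_pow_eq_bot_of_isLocalRing (Ideal.span {x})
        (ne_top_of_le_ne_top (maximalIdeal.isMaximal R).ne_top ((Ideal.span_singleton_le_iff_mem _).mpr hx))]
      exact Submodule.mem_iInf _ |>.mpr h
    exact ha hmem
  let N := Nat.find h
  have hN : a ∉ Ideal.span {x} ^ N := Nat.find_spec h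
  obtain ⟨n, hn⟩ : ∃ n, N = n + 1 := Nat.exists_eq_succ_of_ne_zero fun h0 => hN (by rw [h0, pow_zero, Ideal.one_eq_top]; trivial)
  have hn' : a ∈ Ideal.span {x} ^ n := by
    by_contra h'
    have := Nat.find_min' h h'
    omega
  rw [Ideal.span_singleton_pow] at hn'
  obtain ⟨b, hb⟩ := Ideal.mem_span_singleton'.mp hn'
  refine ⟨n, b, by rw [← hb, mul_comm], fun hbx => hN ?_⟩
  rw [hn, Ideal.span_singleton_pow, ← hb]
  obtain ⟨c, rfl⟩ := Ideal.mem_span_singleton'.mp hbx
  exact Ideal.mem_span_singleton'.mpr ⟨c, by rw [pow_succ]; ring⟩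

theorem isReduced_lift (R : Type u) [CommRing R] [IsNoetherianRing R] [IsLocalRing R] (x : R)
    (hx : x ∈ maximalIdeal R) (hx0 : x ∈ nonZeroDivisors R) (h : IsReduced (R ⧸ Ideal.span {x})) : IsReduced R := by
  refine isReduced_iff_pow_one_lt 2 one_lt_two |>.mpr fun a ha => ?_
  by_contra hne
  obtain ⟨n, b, rfl, hb⟩ := exists_eq_pow_mul hx hne
  refine hb (Ideal.Quotient.eq_zero_iff_mem.mp (IsNilpotent.eq_zero ⟨2, ?_⟩))
  have h0 : x ^ (2 * n) * b ^ 2 = 0 := by rw [← ha]; ring
  have h1 : b ^ 2 * x ^ (2 * n) = 0 := by rw [mul_comm]; exact h0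
  rw [← map_pow, (mul_right_mem_nonZeroDivisors_eq_zero_iff (pow_mem hx0 (2 * n))).mp h1, map_zero]

/-- `R/xR` a domain makes `R` a domain. -/
theorem isDomain_lift (R : Type u) [CommRing R] [IsNoetherianRing R] [IsLocalRing R] (x : R)
    (hx : x ∈ maximalIdeal R) (hx0 : x ∈ nonZeroDivisors R) (h : IsDomain (R ⧸ Ideal.span {x})) : IsDomain R := by
  have hp : (Ideal.span {x}).IsPrime := (Ideal.Quotient.isDomain_iff_prime _).mp h
  have : NoZeroDivisors R := ⟨fun {a c} hac => by
    by_contra hne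
    push Not at hne
    obtain ⟨n, b, rfl, hb⟩ := exists_eq_pow_mul hx hne.1
    obtain ⟨m, d, rfl, hd⟩ := exists_eq_pow_mul hx hne.2
    have h0 : b * d = 0 := (mul_right_mem_nonZeroDivisors_eq_zero_iff (pow_mem hx0 (n + m))).mp
      (by rw [pow_add, ← hac]; ring)
    rcases hp.mem_or_mem (h0 ▸ zero_mem _ : b * d ∈ Ideal.span {x}) with h' | h'
    · exact hb h'
    · exact hd h'⟩
  exact NoZeroDivisors.to_isDomain R

/-- An integrally closed Noetherian quotient by a regular element lifts integral closedness: division criterion. -/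
theorem dvd_of_almostIntegral {R : Type u} [CommRing R] [IsDomain R] [IsNoetherianRing R]
    [IsIntegrallyClosed R] {a b c : R} (hb : b ≠ 0) (hc : c ≠ 0) (h : ∀ n, b ^ n ∣ c * a ^ n) : b ∣ a := by
  let K := FractionRing R
  let z : K := algebraMap R K a / algebraMap R K b
  have hbK : algebraMap R K b ≠ 0 := (map_ne_zero_iff _ (IsFractionRing.injective R K)).mpr hb
  have hcK : algebraMap R K c ≠ 0 := (map_ne_zero_iff _ (IsFractionRing.injective R K)).mpr hc
  let N : Submodule R K := R ∙ (algebraMap R K c)⁻¹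
  have hzN : ∀ n : ℕ, z ^ n ∈ N := fun n => by
    obtain ⟨r, hr⟩ := h n
    refine Submodule.mem_span_singleton.mpr ⟨r, ?_⟩
    rw [Algebra.smul_def, div_pow, eq_div_iff (pow_ne_zero _ hbK), mul_right_comm, ← map_pow, ← map_pow, ← map_mul,
      mul_comm r, ← hr, map_mul, mul_comm, ← mul_assoc, inv_mul_cancel₀ hcK, one_mul]
  have hle : (Algebra.adjoin R {z}).toSubmodule ≤ N := by
    rw [Algebra.adjoin_eq_span, Submodule.span_le]
    intro w hw
    obtain ⟨n, rfl⟩ := Submonoid.mem_closure_singleton.mp hw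
    exact hzN n
  have : IsNoetherian R N := isNoetherian_span_of_finite R (Set.finite_singleton _)
  have hfg : (Algebra.adjoin R {z}).toSubmodule.FG :=
    Submodule.FG.of_le (Submodule.fg_span_singleton _) hle
  have hint : IsIntegral R z := IsIntegral.of_mem_of_fg _ hfg _ (Algebra.subset_adjoin rfl)
  obtain ⟨r, hr⟩ := IsIntegrallyClosed.isIntegral_iff.mp hint
  refine ⟨r, IsFractionRing.injective R K ?_⟩
  rw [map_mul, hr, mul_div_cancel₀ _ hbK]

/-- Division criterion modulo a prime element `x` with normal quotient. -/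
theorem dvd_of_notMem {R : Type u} [CommRing R] [IsDomain R] [IsNoetherianRing R] [IsLocalRing R] (x : R)
    (hx : x ∈ maximalIdeal R) (hxne : x ≠ 0) (hxp : Prime x) [IsDomain (R ⧸ Ideal.span {x})]
    [IsIntegrallyClosed (R ⧸ Ideal.span {x})] (a b c : R) (hb : b ∉ Ideal.span {x}) (hc : c ∉ Ideal.span {x})
    (h : ∀ n, b ^ n ∣ c * a ^ n) : b ∣ a := by
  have hk : ∀ k, ∃ r a₁, a = b * r + x ^ k * a₁ := by
    intro k
    induction k with
    | zero => exact ⟨0, a, by ring⟩
    | succ k ih =>
      obtain ⟨r, a₁, he⟩ := ih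
      have h1 : ∀ n, b ^ n ∣ c * (x ^ k * a₁) ^ n := fun n => by
        rw [show x ^ k * a₁ = a + (-r) * b by rw [he]; ring, add_pow, Finset.mul_sum]
        refine Finset.dvd_sum fun i hi => ?_
        obtain ⟨w, hw⟩ := h i
        have hi' : i ≤ n := Nat.lt_succ_iff.mp (Finset.mem_range.mp hi)
        refine ⟨w * (-r) ^ (n - i) * (n.choose i : R), ?_⟩
        rw [show b ^ n = b ^ i * b ^ (n - i) by rw [← pow_add, Nat.add_sub_cancel' hi'], mul_pow]
        linear_combination ((-r) ^ (n - i) * b ^ (n - i) * (n.choose i : R)) * hw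
      have h2 : ∀ n, b ^ n ∣ c * a₁ ^ n := fun n => by
        obtain ⟨w, hw⟩ := h1 n
        have hndvd : ¬ x ∣ b ^ n := fun hd => hb (Ideal.mem_span_singleton.mpr (hxp.dvd_of_dvd_pow hd))
        have hdvd : (x ^ k) ^ n ∣ b ^ n * w := ⟨c * a₁ ^ n, by rw [← hw]; ring⟩
        rw [← pow_mul] at hdvd
        obtain ⟨w', rfl⟩ := hxp.pow_dvd_of_dvd_mul_left _ hndvd hdvd
        exact ⟨w', mul_left_cancel₀ (pow_ne_zero (k * n) hxne) (by
          rw [show x ^ (k * n) * (c * a₁ ^ n) = c * (x ^ k * a₁) ^ n by rw [mul_pow, ← pow_mul]; ring, hw]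
          ring)⟩
      obtain ⟨q, hq⟩ := dvd_of_almostIntegral (a := Ideal.Quotient.mk (Ideal.span {x}) a₁)
        (b := Ideal.Quotient.mk _ b) (c := Ideal.Quotient.mk _ c)
        (fun h => hb (Ideal.Quotient.eq_zero_iff_mem.mp h)) (fun h => hc (Ideal.Quotient.eq_zero_iff_mem.mp h))
        (fun n => by rw [← map_pow, ← map_pow, ← map_mul]; exact map_dvd _ (h2 n))
      obtain ⟨q, rfl⟩ := Ideal.Quotient.mk_surjective q
      rw [← map_mul, Ideal.Quotient.eq, Ideal.mem_span_singleton'] at hq
      obtain ⟨s, hs⟩ := hq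
      exact ⟨r + x ^ k * q, s, by rw [he, pow_succ]; linear_combination -(x ^ k) * hs⟩
  rw [← Ideal.mem_span_singleton]
  by_cases hu : IsUnit b
  · exact Ideal.mem_span_singleton.mpr hu.dvd
  have hbm : b ∈ maximalIdeal R := hu
  have : IsLocalRing (R ⧸ Ideal.span {b}) := by
    have : Nontrivial (R ⧸ Ideal.span {b}) := Ideal.Quotient.nontrivial_iff.mpr
      (ne_top_of_le_ne_top (maximalIdeal.isMaximal R).ne_top ((Ideal.span_singleton_le_iff_mem _).mpr hbm))
    exact .of_surjective' (Ideal.Quotient.mk _) Ideal.Quotient.mk_surjective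
  rw [← Ideal.Quotient.eq_zero_iff_mem]
  by_contra hne
  have hxb : Ideal.Quotient.mk (Ideal.span {b}) x ∈ maximalIdeal _ := by
    rw [mem_maximalIdeal, mem_nonunits_iff]
    intro hux
    have : IsLocalHom (Ideal.Quotient.mk (Ideal.span {b})) :=
      IsLocalHom.of_surjective _ Ideal.Quotient.mk_surjective
    exact hx (isUnit_of_map_unit _ _ hux)
  have hmem : Ideal.Quotient.mk (Ideal.span {b}) a ∈ (⊥ : Ideal (R ⧸ Ideal.span {b})) := by
    rw [← Ideal.iInf_pow_eq_bot_of_isLocalRing (maximalIdeal (R ⧸ Ideal.span {b}))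
      (maximalIdeal.isMaximal _).ne_top, Submodule.mem_iInf]
    intro k
    obtain ⟨r, a₁, he⟩ := hk k
    rw [he, map_add, map_mul, map_mul, map_pow,
      Ideal.Quotient.eq_zero_iff_mem.mpr (Ideal.mem_span_singleton_self b), zero_mul, zero_add]
    exact Ideal.mul_mem_right _ _ (Ideal.pow_mem_pow hxb k)
  exact hne hmem

theorem exists_denominator {R : Type u} [CommRing R] [IsDomain R] {K : Type u} [Field K] [Algebra R K]
    [IsFractionRing R K] {a b : R} (hb : b ≠ 0)
    (hz : IsIntegral R (algebraMap R (K) a / algebraMap R (K) b)) :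
    ∃ c : R, c ≠ 0 ∧ ∀ n, b ^ n ∣ c * a ^ n := by
  have hbK : algebraMap R (K) b ≠ 0 := (map_ne_zero_iff _ (IsFractionRing.injective R K)).mpr hb
  obtain ⟨S, hS⟩ := hz.fg_adjoin_singleton
  obtain ⟨⟨c, hc⟩, hcS⟩ := IsLocalization.exist_integer_multiples_of_finset (nonZeroDivisors R) S
  refine ⟨c, nonZeroDivisors.ne_zero hc, fun n => ?_⟩
  have hm : (algebraMap R (K) a / algebraMap R (K) b) ^ n ∈
      Submodule.span R (S : Set (K)) := by
    rw [hS]
    exact pow_mem (Algebra.subset_adjoin (R := R) (Set.mem_singleton _)) n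
  have hint : ∀ w ∈ Submodule.span R (S : Set (K)), IsLocalization.IsInteger R ((c : R) • w) := by
    intro w hw
    induction hw using Submodule.span_induction with
    | mem w hw => exact hcS w hw
    | zero => rw [smul_zero]; exact IsLocalization.isInteger_zero
    | add u v _ _ hu hv => rw [smul_add]; exact IsLocalization.isInteger_add hu hv
    | smul r w _ hw => rw [smul_comm]; exact IsLocalization.isInteger_smul hw
  obtain ⟨w, hw⟩ := hint _ hm
  refine ⟨w, IsFractionRing.injective R (K) ?_⟩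
  rw [map_mul, map_mul, map_pow, map_pow, hw, Algebra.smul_def, div_pow, mul_div_assoc',
    mul_div_cancel₀ _ (pow_ne_zero _ hbK)]

theorem pow_dvd_of_dvd {R : Type u} [CommRing R] [IsDomain R] [IsNoetherianRing R] [IsLocalRing R] {x : R}
    (hx : x ∈ maximalIdeal R) (hxne : x ≠ 0) (hxp : Prime x) {a b b' c c' : R} {β γ : ℕ}
    (hbe : b = x ^ β * b') (hce : c = x ^ γ * c') (hc' : c' ∉ Ideal.span {x})
    (hc : ∀ n, b ^ n ∣ c * a ^ n) : x ^ β ∣ a := by
  by_cases ha0 : a = 0
  · exact ha0 ▸ dvd_zero _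
  obtain ⟨α, a', hae, ha'⟩ := exists_eq_pow_mul hx ha0
  by_contra hlt
  have hαβ : α < β := by
    by_contra hle
    exact hlt (hae ▸ dvd_mul_of_dvd_left (pow_dvd_pow x (Nat.le_of_not_lt hle)) a')
  have h1 : x ^ (β * (γ + 1)) ∣ x ^ (γ + α * (γ + 1)) * (c' * a' ^ (γ + 1)) := by
    refine dvd_trans ⟨b' ^ (γ + 1), ?_⟩ (dvd_trans (hc (γ + 1)) (dvd_of_eq ?_))
    · rw [hbe, mul_pow, ← pow_mul]
    · rw [hce, hae, mul_pow, pow_add, ← pow_mul]; ring
  have hnd : ¬ x ∣ c' * a' ^ (γ + 1) := fun h => by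
    rcases hxp.dvd_or_dvd h with h' | h'
    · exact hc' (Ideal.mem_span_singleton.mpr h')
    · exact ha' (Ideal.mem_span_singleton.mpr (hxp.dvd_of_dvd_pow h'))
  have h2 := (pow_dvd_pow_iff hxne hxp.not_unit).mp (hxp.pow_dvd_of_dvd_mul_right _ hnd h1)
  nlinarith [Nat.mul_le_mul_right (γ + 1) (Nat.succ_le_of_lt hαβ)]

theorem isIntegrallyClosed_lift (R : Type u) [CommRing R] [IsNoetherianRing R] [IsLocalRing R] (x : R)
    (hx : x ∈ maximalIdeal R) (hx0 : x ∈ nonZeroDivisors R) [IsDomain (R ⧸ Ideal.span {x})]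
    [IsIntegrallyClosed (R ⧸ Ideal.span {x})] : IsDomain R ∧ IsIntegrallyClosed R := by
  have hdom := isDomain_lift R x hx hx0 inferInstance
  have hp : (Ideal.span {x}).IsPrime := (Ideal.Quotient.isDomain_iff_prime _).mp inferInstance
  have hxne : x ≠ 0 := nonZeroDivisors.ne_zero hx0
  have hxp : Prime x := (Ideal.span_singleton_prime hxne).mp hp
  refine ⟨hdom, (isIntegrallyClosed_iff (FractionRing R)).mpr fun {z} hz => ?_⟩
  obtain ⟨a, b, hb0, rfl⟩ := IsFractionRing.div_surjective (A := R) z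
  have hb0' : b ≠ 0 := nonZeroDivisors.ne_zero hb0
  have hbK : algebraMap R (FractionRing R) b ≠ 0 := (map_ne_zero_iff _ (IsFractionRing.injective R _)).mpr hb0'
  obtain ⟨c, hc0, hc⟩ := exists_denominator hb0' hz
  suffices hdvd : b ∣ a by
    obtain ⟨q, rfl⟩ := hdvd
    exact ⟨q, by rw [map_mul, mul_div_cancel_left₀ _ hbK]⟩
  obtain ⟨β, b', hbe, hb'⟩ := exists_eq_pow_mul hx hb0'
  obtain ⟨γ, c', hce, hc'⟩ := exists_eq_pow_mul hx hc0
  obtain ⟨a', rfl⟩ : x ^ β ∣ a := pow_dvd_of_dvd hx hxne hxp hbe hce hc' hc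
  rw [hbe]
  refine mul_dvd_mul_left _ (dvd_of_notMem x hx hxne hxp a' b' c' hb' hc' fun n => ?_)
  have h1 := hc n
  rw [hbe, hce, mul_pow, mul_pow, mul_comm (x ^ γ) c', mul_assoc, mul_left_comm (x ^ γ),
    mul_left_comm c'] at h1
  have h2 : b' ^ n ∣ x ^ γ * (c' * a' ^ n) := by
    have := (mul_dvd_mul_iff_left (pow_ne_zero n (pow_ne_zero β hxne))).mp h1
    rwa [mul_left_comm] at this
  have hnd : ¬ x ∣ b' ^ n := fun hd => hb' (Ideal.mem_span_singleton.mpr (hxp.dvd_of_dvd_pow hd))
  obtain ⟨w, hw⟩ := h2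
  obtain ⟨w', rfl⟩ := hxp.pow_dvd_of_dvd_mul_left γ hnd ⟨c' * a' ^ n, hw.symm⟩
  exact ⟨w', mul_left_cancel₀ (pow_ne_zero γ hxne) (by rw [hw]; ring)⟩

theorem isReduced_asc (R T : Type u) [CommRing R] [CommRing T] [IsNoetherianRing R]
    [Algebra R T] [Module.Flat R T] (hR : IsReduced R) (h : ∀ (Q : Ideal R) [Q.IsPrime], IsReduced (Q.Fiber T)) :
    IsReduced T := by
  classical
  let ι := minimalPrimes R
  have : Fintype ι := (minimalPrimes.finite_of_isNoetherianRing R).fintype
  have hP : ∀ i : ι, (i : Ideal R).IsPrime := fun i => i.2.1.1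
  let L : ι → Type u := fun i => (i : Ideal R).ResidueField
  let j : R →ₗ[R] (∀ i, L i) := LinearMap.pi fun i => Algebra.linearMap R (L i)
  have hj : Function.Injective j := by
    refine (injective_iff_map_eq_zero j).mpr fun x hx => ?_
    refine IsNilpotent.eq_zero (mem_nilradical.mp ?_)
    rw [nilradical, Ideal.radical_eq_sInf, Ideal.mem_sInf]
    rintro Q ⟨-, hQ⟩
    obtain ⟨q, hq, hqQ⟩ := Ideal.exists_minimalPrimes_le (bot_le : (⊥ : Ideal R) ≤ Q)
    have : q.IsPrime := hq.1.1
    have h1 : algebraMap R (q.ResidueField) x = 0 := congrFun hx ⟨q, hq⟩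
    exact hqQ (by rwa [← RingHom.mem_ker, Ideal.ker_algebraMap_residueField] at h1)
  let Φ : T →+* ∀ i : ι, (i : Ideal R).Fiber T :=
    RingHom.pi fun i => (Algebra.TensorProduct.includeRight : T →ₐ[R] L i ⊗[R] T).toRingHom
  refine isReduced_of_injective Φ ((injective_iff_map_eq_zero Φ).mpr fun z hz => ?_)
  have hinj : Function.Injective (LinearMap.lTensor T j) :=
    Module.Flat.lTensor_preserves_injective_linearMap j hj
  have h1 : z ⊗ₜ[R] (1 : R) = 0 := by
    refine hinj ((TensorProduct.piRight R R T L).injective (funext fun i => ?_))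
    rw [LinearMap.lTensor_tmul, map_zero, map_zero, TensorProduct.piRight_apply, TensorProduct.piRightHom_tmul]
    refine (TensorProduct.comm R T (L i)).injective ?_
    simp only [TensorProduct.comm_tmul, Pi.zero_apply, map_zero]
    rw [show j 1 i = (1 : L i) from map_one (algebraMap R (L i))]
    exact congrFun hz i
  have := congrArg (TensorProduct.rid R T) h1
  rwa [TensorProduct.rid_tmul, one_smul, map_zero] at this

theorem good_isReduced : Good.{u} (fun R _ => IsReduced R) where
  iso R S _ _ e h := isReduced_of_injective e.symm e.symm.injective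
  localization R S _ _ _ _ M _ h := isReduced_localizationPreserves M S h
  of_local R _ _ h := isReduced_ofLocalizationMaximal R fun J hJ => h J
  desc R T _ _ _ _ _ h := isReduced_of_injective (algebraMap R T) (FaithfulSMul.algebraMap_injective R T)
  asc R T _ _ _ _ _ _ hR h := isReduced_asc R T hR h
  lift R _ _ _ x hx hx0 h := isReduced_lift R x hx hx0 h
  regular R _ h := by
    haveI := h
    refine isReduced_ofLocalizationMaximal R fun J hJ => ?_
    have : IsDomain (Localization.AtPrime J) := (FlatAscent.isNormalRing_of_isRegularRing (R := R) J).1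
    infer_instance

/-- A local normal ring is a normal domain, and conversely. -/
theorem normal_of_isNormalRing {R : Type u} [CommRing R] [IsLocalRing R] (h : EGA4.IsNormalRing R) :
    IsDomain R ∧ IsIntegrallyClosed R :=
  FlatAscent.normal_transport (IsLocalization.atUnits R (S := Localization.AtPrime (maximalIdeal R))
    (maximalIdeal R).primeCompl (fun _ hx => IsLocalRing.notMem_maximalIdeal.mp hx)).symm.toRingEquiv
    (h (maximalIdeal R))

theorem isNormalRing_of_domain {R : Type u} [CommRing R] [IsDomain R] [IsIntegrallyClosed R] :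
    EGA4.IsNormalRing R := fun p _ =>
  ⟨inferInstance, isIntegrallyClosed_of_isLocalization _ p.primeCompl p.primeCompl_le_nonZeroDivisors⟩

theorem good_isNormalRing : Good.{u} (fun R _ => EGA4.IsNormalRing R) where
  iso R S _ _ e h := FlatAscent.isNormalRing_of_ringEquiv e h
  localization R S _ _ _ _ M _ h := FlatAscent.isNormalRing_of_isLocalization M h
  of_local R _ _ h q hq := normal_of_isNormalRing (h q)
  desc R T _ _ _ _ _ h := FlatAscent.isNormalRing_of_faithfullyFlat h
  asc R T _ _ _ _ _ _ hR h := FlatAscent.isNormalRing_of_fibres hR h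
  lift R _ _ _ x hx hx0 h := by
    have : Nontrivial (R ⧸ Ideal.span {x}) := Ideal.Quotient.nontrivial_iff.mpr
      (ne_top_of_le_ne_top (maximalIdeal.isMaximal R).ne_top ((Ideal.span_singleton_le_iff_mem _).mpr hx))
    have : IsLocalRing (R ⧸ Ideal.span {x}) := .of_surjective' (Ideal.Quotient.mk _) Ideal.Quotient.mk_surjective
    obtain ⟨_, _⟩ := normal_of_isNormalRing h
    obtain ⟨_, _⟩ := isIntegrallyClosed_lift R x hx hx0
    exact isNormalRing_of_domain
  regular R _ h := by
    haveI := h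
    exact FlatAscent.isNormalRing_of_isRegularRing

theorem hasSk_of_cm {R : Type u} [CommRing R] [h : LocCoh.IsCohenMacaulayRing R] (k : ℕ) : LocCoh.HasSk k R R :=
  FlatSerre.hasSk_iff_forall_skLoc.mpr fun p _ =>
    have := h.isCohenMacaulayLocalRing_localization p
    (min_le_right _ _).trans (DepthLib.ringKrullDim_eq_depth (R := Localization.AtPrime p)).le

theorem cm_of_hasSk {R : Type u} [CommRing R] [IsNoetherianRing R] (h : ∀ k, LocCoh.HasSk k R R) :
    LocCoh.IsCohenMacaulayRing R where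
  isCohenMacaulayLocalRing_localization p _ := by
    obtain ⟨d, hd⟩ : ∃ d : ℕ, ringKrullDim (Localization.AtPrime p) = d := by
      obtain ⟨d, hd⟩ := ENat.ne_top_iff_exists.mp (Ideal.height_ne_top (I := p) (Ideal.IsPrime.ne_top ‹_›))
      exact ⟨d, by rw [IsLocalization.AtPrime.ringKrullDim_eq_height p, ← hd]; rfl⟩
    have := FlatSerre.hasSk_iff_forall_skLoc.mp (h d) p
    unfold FlatSerre.SkLoc at this
    rw [hd, min_self, ← hd] at this
    exact DepthLib.isCohenMacaulayLocalRing_iff.mpr this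

theorem good_isCohenMacaulayRing : Good.{u} (fun R _ => LocCoh.IsCohenMacaulayRing R) where
  iso R S _ _ e h := by haveI := h; exact Catenary.isCohenMacaulayRing_of_ringEquiv e
  localization R S _ _ _ _ M _ h := by
    haveI := IsLocalization.isNoetherianRing M S ‹IsNoetherianRing R›
    refine { isCohenMacaulayLocalRing_localization := fun Q _ => ?_ }
    have := IsLocalization.isLocalization_isLocalization_atPrime_isLocalization M (Localization.AtPrime Q) Q
    haveI := h.isCohenMacaulayLocalRing_localization (Q.comap (algebraMap R S))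
    exact Catenary.isCohenMacaulayLocalRing_of_ringEquiv (IsLocalization.algEquiv
      (Q.comap (algebraMap R S)).primeCompl (Localization.AtPrime (Q.comap (algebraMap R S)))
      (Localization.AtPrime Q)).toRingEquiv
  of_local R _ _ h := by
    refine { isCohenMacaulayLocalRing_localization := fun q _ => ?_ }
    haveI := (h q).isCohenMacaulayLocalRing_localization (maximalIdeal (Localization.AtPrime q))
    exact Catenary.isCohenMacaulayLocalRing_of_ringEquiv
      (IsLocalization.atUnits (Localization.AtPrime q) (S := Localization.AtPrime (maximalIdeal (Localization.AtPrime q)))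
        (maximalIdeal (Localization.AtPrime q)).primeCompl (fun _ hx => IsLocalRing.notMem_maximalIdeal.mp hx)).symm.toRingEquiv
  desc R T _ _ _ _ _ h := by
    haveI := h
    haveI := (S9437.result 0 R T (hasSk_of_cm 0)).1
    exact cm_of_hasSk fun k => (S9437.result k R T (hasSk_of_cm k)).2
  asc R T _ _ _ _ _ _ hR h := by
    haveI := hR
    exact cm_of_hasSk fun k => FlatSerre.hasSk_of_fibres (A := R) (hasSk_of_cm k)
      fun Q _ => haveI := h Q; hasSk_of_cm k
  lift R _ _ _ x hx hx0 h := by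
    have : Nontrivial (R ⧸ Ideal.span {x}) := Ideal.Quotient.nontrivial_iff.mpr
      (ne_top_of_le_ne_top (maximalIdeal.isMaximal R).ne_top ((Ideal.span_singleton_le_iff_mem _).mpr hx))
    have : IsLocalRing (R ⧸ Ideal.span {x}) := .of_surjective' (Ideal.Quotient.mk _) Ideal.Quotient.mk_surjective
    haveI := h.isCohenMacaulayLocalRing_localization (maximalIdeal (R ⧸ Ideal.span {x}))
    have hq : LocCoh.IsCohenMacaulayLocalRing (R ⧸ Ideal.span {x}) :=
      Catenary.isCohenMacaulayLocalRing_of_ringEquiv (IsLocalization.atUnits (R ⧸ Ideal.span {x})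
        (S := Localization.AtPrime (maximalIdeal (R ⧸ Ideal.span {x})))
        (maximalIdeal (R ⧸ Ideal.span {x})).primeCompl (fun _ hx => IsLocalRing.notMem_maximalIdeal.mp hx)).symm.toRingEquiv
    have hreg : IsSMulRegular R x := fun a b hab => (mul_cancel_left_mem_nonZeroDivisors hx0).mp hab
    have e : QuotSMulTop x R ≃ₗ[R] R ⧸ Ideal.span {x} :=
      Submodule.quotEquivOfEq _ _ (by rw [← Submodule.ideal_span_singleton_smul, smul_eq_mul, Ideal.mul_top])
    have h2 : LocCoh.depth (R ⧸ Ideal.span {x}) (R ⧸ Ideal.span {x}) = LocCoh.depth R (R ⧸ Ideal.span {x}) := by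
      change LocCoh.idealDepth _ _ = LocCoh.idealDepth _ _
      rw [← DepthLib.idealDepth_map_of_surjective (I := maximalIdeal R) (M := R ⧸ Ideal.span {x})
        (S := R ⧸ Ideal.span {x}) Ideal.Quotient.mk_surjective]
      congr 1
      exact (map_maximalIdeal_of_surjective _ Ideal.Quotient.mk_surjective).symm
    have h1 : LocCoh.IsCohenMacaulayModule R (R ⧸ Ideal.span {x}) := by
      unfold LocCoh.IsCohenMacaulayModule
      rw [← h2, ← DepthLib.ringKrullDim_eq_depth, Module.supportDim_eq_ringKrullDim_quotient_annihilator,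
        Ideal.annihilator_quotient]
    have : LocCoh.IsCohenMacaulayLocalRing R :=
      { supportDim_eq_depth := (DepthLib.isCohenMacaulayModule_quotSMulTop_iff hx hreg).mp
          ((DepthLib.isCohenMacaulayModule_congr e).mpr h1) }
    exact DepthLib.isCohenMacaulayRing_of_isCohenMacaulayLocalRing
  regular R _ h := by
    haveI := h
    exact Catenary.isCohenMacaulayRing_of_isRegularRing R

end Groth.Agent.FibreP
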