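import Groth.Agent.FibreP.Basic
import Groth.Agent.GRing17.FiniteType
import Groth.Agent.NagataJac.CompleteJ2
import Groth.Agent.CohenStruct.N2
import Groth.Agent.CohenStruct.PowerSeries
import Mathlib.RingTheory.DiscreteValuationRing.TFAE
import Groth.Agent.S0547

/-!
# Geometric properties of all fibres from the closed fibre (EGA IV 7.5.1)

For complete local rings: induction on the dimension of the base.  The generic fibre is reached from a
prime `Q` with `dim B/Q = 1` off the closed fibre, the one-dimensional base is normalised to a DVR.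
-/

universe u

open IsLocalRing TensorProduct

namespace Groth.Agent.FibreP

variable {P : ∀ (R : Type u) [CommRing R], Prop}

/-- Descent of a single fibre. -/
theorem Good.desc_tensor (hP : Good P) (A B C K : Type u) [CommRing A] [CommRing B] [CommRing C] [CommRing K]
    [Algebra A B] [Algebra B C] [Algebra A C] [IsScalarTower A B C] [IsNoetherianRing C]
    [Algebra A K] [Algebra.EssFiniteType A K] [Module.FaithfullyFlat B C] (h : P (K ⊗[A] C)) : P (K ⊗[A] B) := by
  let R := B ⊗[A] K
  let T := R ⊗[B] C
  let eT : K ⊗[A] C ≃+* T :=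
    (Algebra.TensorProduct.comm A K C).toRingEquiv.trans
      ((Algebra.TensorProduct.cancelBaseChange A B C C K).symm.toRingEquiv.trans
        (Algebra.TensorProduct.comm B C R).toRingEquiv)
  have := isNoetherianRing_tensor A C K
  have : IsNoetherianRing T := isNoetherianRing_of_ringEquiv _ eT
  exact hP.iso _ _ (Algebra.TensorProduct.comm A B K).toRingEquiv (hP.desc R T (hP.iso _ _ eT h))

/-- `P` of `K ⊗ B` passes to localizations of `B`. -/
theorem Good.tensor_localization (hP : Good P) (A B L K : Type u) [CommRing A] [CommRing B] [CommRing L] [CommRing K]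
    [Algebra A B] [Algebra B L] [Algebra A L] [IsScalarTower A B L] [IsNoetherianRing B]
    [Algebra A K] [Algebra.EssFiniteType A K] (M : Submonoid B) [IsLocalization M L] (h : P (K ⊗[A] B)) :
    P (K ⊗[A] L) := by
  let T := B ⊗[A] K
  have := isNoetherianRing_tensor A B K
  have : IsNoetherianRing T := isNoetherianRing_of_ringEquiv _ (Algebra.TensorProduct.comm A K B).toRingEquiv
  have : IsLocalization (Algebra.algebraMapSubmonoid T M) (T ⊗[B] L) := inferInstance
  exact hP.iso _ _ (((Algebra.TensorProduct.comm B T L).toRingEquiv.trans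
      (Algebra.TensorProduct.cancelBaseChange A B L L K).toRingEquiv).trans
      (Algebra.TensorProduct.comm A L K).toRingEquiv)
    (hP.localization T (T ⊗[B] L) (Algebra.algebraMapSubmonoid T M)
      (hP.iso _ _ (Algebra.TensorProduct.comm A K B).toRingEquiv h))

/-- The generic-fibre statement. -/
def GenFib (P : ∀ (R : Type u) [CommRing R], Prop) (d : ℕ) : Prop :=
  ∀ (A B : Type u) [CommRing A] [CommRing B] [IsDomain A] [IsLocalRing A] [IsNoetherianRing A]
    [IsAdicComplete (maximalIdeal A) A] [IsLocalRing B] [IsNoetherianRing B]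
    [IsAdicComplete (maximalIdeal B) B] [Algebra A B] [IsLocalHom (algebraMap A B)] [Module.Flat A B]
    [Module.Finite (ResidueField A) (ResidueField B)] (K : Type u) [Field K] [Algebra A K] [IsFractionRing A K],
    ringKrullDim A ≤ (d : WithBot ℕ∞) → ClosedFib P A B → P (K ⊗[A] B)

/-- A finite extension of a residue field is the fraction field of a finite algebra domain. -/
theorem exists_finite_model {A : Type u} [CommRing A] (p : Ideal A) [p.IsPrime] (K : Type u) [Field K]
    [Algebra p.ResidueField K] [Algebra A K] [IsScalarTower A p.ResidueField K]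
    [Module.Finite p.ResidueField K] :
    ∃ A' : Subalgebra A K, Module.Finite A A' ∧ IsFractionRing A' K := by
  classical
  let κ := p.ResidueField
  let bas := Module.Free.chooseBasis κ K
  let _ : Algebra (A ⧸ p) K := ((algebraMap κ K).comp (algebraMap (A ⧸ p) κ)).toAlgebra
  have : IsScalarTower (A ⧸ p) κ K := .of_algebraMap_eq fun _ => rfl
  have : IsScalarTower A (A ⧸ p) K := .of_algebraMap_eq fun c => by
    show _ = algebraMap κ K (algebraMap (A ⧸ p) κ (algebraMap A (A ⧸ p) c))
    rw [← IsScalarTower.algebraMap_apply A (A ⧸ p) κ, ← IsScalarTower.algebraMap_apply A κ K]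
  have hscale : ∀ z : K, ∃ s : A, algebraMap A K s ≠ 0 ∧ IsIntegral A (algebraMap A K s * z) := by
    intro z
    have halg : IsAlgebraic (A ⧸ p) z :=
      (IsFractionRing.isAlgebraic_iff (A ⧸ p) κ K).mpr (Algebra.IsAlgebraic.isAlgebraic z)
    obtain ⟨y, hy, hint⟩ := halg.exists_integral_multiple
    obtain ⟨s, rfl⟩ := Ideal.Quotient.mk_surjective y
    have hs : algebraMap (A ⧸ p) K (Ideal.Quotient.mk p s) = algebraMap A K s :=
      (IsScalarTower.algebraMap_apply A (A ⧸ p) K s).symm
    refine ⟨s, ?_, ?_⟩
    · rw [← hs, IsScalarTower.algebraMap_apply (A ⧸ p) κ K]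
      exact (map_ne_zero _).mpr ((map_ne_zero_iff _ (IsFractionRing.injective (A ⧸ p) κ)).mpr hy)
    · rw [Algebra.smul_def, hs] at hint
      exact isIntegral_trans _ hint
  choose s hs0 hsint using fun i => hscale (bas i)
  let S : Finset K := Finset.univ.image fun i => algebraMap A K (s i) * bas i
  refine ⟨Algebra.adjoin A (S : Set K), ?_, ?_⟩
  · refine Module.Finite.iff_fg.mpr (fg_adjoin_of_finite S.finite_toSet fun z hz => ?_)
    obtain ⟨i, -, rfl⟩ := Finset.mem_image.mp (Finset.mem_coe.mp hz)
    exact hsint i
  · refine IsFractionRing.of_field _ _ fun z => ?_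
    let A' := Algebra.adjoin A (S : Set K)
    have hA : ∀ a : A, algebraMap A K a ∈ A' := fun a => A'.algebraMap_mem a
    suffices ∀ z : K, ∃ x y : A', z = (x : K) / y from this z
    intro z
    rw [← bas.sum_repr z]
    refine Finset.sum_induction _ (fun w => ∃ x y : A', w = (x : K) / y) ?_ ⟨0, 1, by simp⟩ fun i _ => ?_
    · rintro _ _ ⟨x, y, rfl⟩ ⟨x', y', rfl⟩
      by_cases hy : (y : K) = 0
      · exact ⟨x', y', by rw [hy, div_zero, zero_add]⟩
      by_cases hy' : (y' : K) = 0
      · exact ⟨x, y, by rw [hy', div_zero, add_zero]⟩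
      exact ⟨x * y' + y * x', y * y', by push_cast; rw [div_add_div _ _ hy hy']⟩
    · obtain ⟨a, b, hb, hab⟩ := IsFractionRing.div_surjective (A := A ⧸ p) (bas.repr z i)
      obtain ⟨a, rfl⟩ := Ideal.Quotient.mk_surjective a
      obtain ⟨b, rfl⟩ := Ideal.Quotient.mk_surjective b
      refine ⟨⟨algebraMap A K a * (algebraMap A K (s i) * bas i),
        mul_mem (hA a) (Algebra.subset_adjoin (Finset.mem_coe.mpr (Finset.mem_image_of_mem _ (Finset.mem_univ i))))⟩,
        ⟨algebraMap A K b * algebraMap A K (s i), mul_mem (hA b) (hA (s i))⟩, ?_⟩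
      have e : ∀ c : A, algebraMap κ K (algebraMap (A ⧸ p) κ (Ideal.Quotient.mk p c)) = algebraMap A K c := fun c => by
        rw [show algebraMap (A ⧸ p) κ (Ideal.Quotient.mk p c) = algebraMap A κ c from
          (IsScalarTower.algebraMap_apply A (A ⧸ p) κ c).symm, ← IsScalarTower.algebraMap_apply]
      rw [Algebra.smul_def, ← hab, map_div₀, e, e]
      show _ = (algebraMap A K a * (algebraMap A K (s i) * bas i)) / (algebraMap A K b * algebraMap A K (s i))
      rw [mul_comm (algebraMap A K (s i)) (bas i), ← mul_assoc, mul_div_mul_right _ _ (hs0 i), div_mul_eq_mul_div]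

theorem ringKrullDim_le_of_isIntegral {A A' : Type u} [CommRing A] [CommRing A'] [Algebra A A']
    [Algebra.IsIntegral A A'] (p : Ideal A) (hp : p ≤ RingHom.ker (algebraMap A A')) :
    ringKrullDim A' ≤ ringKrullDim (A ⧸ p) := by
  rw [ringKrullDim_quotient]
  refine Order.krullDim_le_of_strictMono
    (fun Q => (⟨PrimeSpectrum.comap (algebraMap A A') Q, fun a ha => by
      show algebraMap A A' a ∈ Q.asIdeal
      rw [show algebraMap A A' a = 0 from hp ha]
      exact zero_mem _⟩ : PrimeSpectrum.zeroLocus (p : Set A))) fun Q Q' h => ?_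
  exact Ideal.comap_lt_comap_of_integral_mem_sdiff (show Q.asIdeal ≤ Q'.asIdeal from h.le)
    (Set.exists_of_ssubset (show (Q.asIdeal : Set A') ⊂ Q'.asIdeal from h)).choose_spec
    (Algebra.IsIntegral.isIntegral _)

/-- From a finite model of the residue field extension to `K ⊗ B`. -/
theorem Good.tensor_of_model (hP : Good P)
    {A B : Type u} [CommRing A] [CommRing B] [IsLocalRing A] [IsNoetherianRing A]
    [IsAdicComplete (maximalIdeal A) A] [IsLocalRing B] [IsNoetherianRing B]
    [IsAdicComplete (maximalIdeal B) B] [Algebra A B] [IsLocalHom (algebraMap A B)] [Module.Flat A B]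
    [Module.Finite (ResidueField A) (ResidueField B)] (h : ClosedFib P A B)
    (A' : Type u) [CommRing A'] [IsDomain A'] [IsLocalRing A'] [Algebra A A'] [Module.Finite A A']
    (K : Type u) [Field K] [Algebra A K] [Algebra A' K] [IsScalarTower A A' K] [IsFractionRing A' K]
    (hgen : ∀ (D : Type u) [CommRing D] [IsLocalRing D] [IsNoetherianRing D] [IsAdicComplete (maximalIdeal D) D]
      [Algebra A' D] [IsLocalHom (algebraMap A' D)] [Module.Flat A' D]
      [Module.Finite (ResidueField A') (ResidueField D)], ClosedFib P A' D → P (K ⊗[A'] D)) :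
    P (K ⊗[A] B) := by
  have : IsNoetherianRing A' := IsNoetherianRing.of_finite A A'
  let B' := A' ⊗[A] B
  have hN : IsNoetherianRing B' := isNoetherianRing_tensor A B A'
  have : Algebra.EssFiniteType A' K := Algebra.EssFiniteType.of_isLocalization K (nonZeroDivisors A')
  have : Algebra.EssFiniteType A K := Algebra.EssFiniteType.comp A A' K
  have := isNoetherianRing_tensor A B K
  let T := B' ⊗[A'] K
  let eT : T ≃+* K ⊗[A] B := (Algebra.TensorProduct.comm A' B' K).toRingEquiv.trans
    (Algebra.TensorProduct.cancelBaseChange A A' K K B).toRingEquiv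
  have : IsNoetherianRing T := isNoetherianRing_of_ringEquiv _ eT.symm
  refine hP.iso _ _ eT (hP.of_forall_maximal (B := B') fun n _ => ?_)
  let L := Localization.AtPrime n
  refine hP.iso _ _ (((Algebra.TensorProduct.comm B' T L).toRingEquiv.trans
      (Algebra.TensorProduct.cancelBaseChange A' B' L L K).toRingEquiv).trans
      (Algebra.TensorProduct.comm A' L K).toRingEquiv).symm ?_
  have : IsNoetherianRing L := IsLocalization.isNoetherianRing n.primeCompl L inferInstance
  let D := EGA4.Cpl L
  have := CohenStruct.isNoetherianRing_completion L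
  have hLD : CAlg.IsRegularHom L D := by
    letI := Algebra.TensorProduct.rightAlgebra (R := A) (A := A') (B := B)
    have : Module.Finite B B' := Module.Finite.equiv (Algebra.TensorProduct.commRight A B A').toLinearEquiv
    exact (GRing17.isGRing_finiteType_complete B B').2 n
  let ιB : B →+* B' := (Algebra.TensorProduct.includeRight : B →ₐ[A] B').toRingHom
  have hint : ιB.IsIntegral := by
    letI := Algebra.TensorProduct.rightAlgebra (R := A) (A := A') (B := B)
    have : Module.Finite B B' := Module.Finite.equiv (Algebra.TensorProduct.commRight A B A').toLinearEquiv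
    exact algebraMap_isIntegral_iff.mpr inferInstance
  have hnB : n.comap ιB = maximalIdeal B :=
    IsLocalRing.eq_maximalIdeal (Ideal.isMaximal_comap_of_isIntegral_of_isMaximal' ιB hint n)
  have hnA : maximalIdeal A ≤ n.comap (algebraMap A B') := fun a ha => by
    show algebraMap A B' a ∈ n
    rw [← (Algebra.TensorProduct.includeRight : B →ₐ[A] B').commutes a]
    exact (hnB.symm ▸ map_nonunit (algebraMap A B) a ha : algebraMap A B a ∈ n.comap ιB)
  have hnA' : n.comap (algebraMap A' B') = maximalIdeal A' := by
    refine le_antisymm (le_maximalIdeal (Ideal.IsPrime.comap _).ne_top) ?_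
    have hmax : (n.comap (algebraMap A' B')).IsMaximal := by
      refine Ideal.isMaximal_of_isIntegral_of_isMaximal_comap (R := A) _ ?_
      have : (n.comap (algebraMap A' B')).comap (algebraMap A A') = maximalIdeal A := by
        rw [Ideal.comap_comap, ← IsScalarTower.algebraMap_eq]
        exact le_antisymm (le_maximalIdeal (Ideal.IsPrime.comap _).ne_top) hnA
      rw [this]
      exact maximalIdeal.isMaximal A
    exact (IsLocalRing.eq_maximalIdeal hmax).ge
  have hlocL : IsLocalHom (algebraMap A' L) := ((local_hom_TFAE _).out 2 0).mp (by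
    refine Ideal.map_le_iff_le_comap.mpr fun r hr => ?_
    show algebraMap A' L r ∈ maximalIdeal L
    rw [IsScalarTower.algebraMap_apply A' B' L]
    exact (IsLocalization.AtPrime.to_map_mem_maximal_iff L n _).mpr (hnA'.symm ▸ hr : r ∈ n.comap (algebraMap A' B')))
  -- finite residue field extension
  have hresL : Module.Finite (ResidueField A') (ResidueField L) := by
    let E := ResidueField L
    let π : B' →+* E := (residue L).comp (algebraMap B' L)
    have hπ : Function.Surjective π := fun e => by
      let _ := Ideal.Quotient.field n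
      obtain ⟨d, rfl⟩ := residue_surjective e
      obtain ⟨a, s, rfl⟩ := IsLocalization.exists_mk'_eq n.primeCompl d
      obtain ⟨t, ht⟩ := Ideal.Quotient.mk_surjective ((Ideal.Quotient.mk n s.1)⁻¹)
      refine ⟨a * t, ?_⟩
      have hst : s.1 * t - 1 ∈ n := by
        rw [← Ideal.Quotient.mk_eq_mk_iff_sub_mem, map_mul, ht, map_one,
          mul_inv_cancel₀ (fun h0 => s.2 (Ideal.Quotient.eq_zero_iff_mem.mp h0))]
      have h1 : π (s.1 * t) = 1 := by
        rw [← map_one π, ← sub_eq_zero, ← map_sub]
        exact (residue_eq_zero_iff _).mpr ((IsLocalization.AtPrime.to_map_mem_maximal_iff L n _).mpr hst)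
      have h2 : π a = π s.1 * residue L (IsLocalization.mk' L a s) := by
        show residue L (algebraMap B' L a) = residue L (algebraMap B' L s.1) * _
        rw [← map_mul, IsLocalization.mk'_spec']
      rw [map_mul, h2, mul_comm (π s.1), mul_assoc, ← map_mul, h1, mul_one]
    let πA : B' →ₐ[A'] E := { π with
      commutes' := fun a => by
        show residue L (algebraMap B' L (algebraMap A' B' a)) = algebraMap A' E a
        rw [← IsScalarTower.algebraMap_apply]; rfl }
    let kB := ResidueField B
    let ψ₀ : kB →+* E := RingHom.liftOfSurjective (residue B) residue_surjective ⟨π.comp ιB, fun b hb => by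
      have : b ∈ n.comap ιB := hnB.symm ▸ (residue_eq_zero_iff b).mp hb
      exact (residue_eq_zero_iff _).mpr ((IsLocalization.AtPrime.to_map_mem_maximal_iff L n _).mpr this)⟩
    have hψ : ∀ b, ψ₀ (residue B b) = π (ιB b) := fun b =>
      RingHom.liftOfRightInverse_comp_apply (residue B) _ (Function.rightInverse_surjInv residue_surjective) _ b
    let ψ : kB →ₐ[A] E := { ψ₀ with
      commutes' := fun a => by
        show ψ₀ (residue B (algebraMap A B a)) = algebraMap A E a
        rw [hψ, show ιB (algebraMap A B a) = algebraMap A B' a from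
          (Algebra.TensorProduct.includeRight : B →ₐ[A] B').commutes a,
          show π (algebraMap A B' a) = residue L (algebraMap B' L (algebraMap A B' a)) from rfl,
          ← IsScalarTower.algebraMap_apply A B' L]
        rfl }
    let Φ : A' ⊗[A] kB →ₐ[A'] E := Algebra.TensorProduct.lift (Algebra.ofId A' E) ψ (fun _ _ => Commute.all _ _)
    have hΦ : Function.Surjective Φ := fun e => by
      obtain ⟨z, rfl⟩ := hπ e
      induction z using TensorProduct.induction_on with
      | zero => exact ⟨0, by rw [map_zero, map_zero]⟩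
      | add x y hx hy =>
        obtain ⟨u, hu⟩ := hx
        obtain ⟨v, hv⟩ := hy
        exact ⟨u + v, by rw [map_add, map_add, hu, hv]⟩
      | tmul a b =>
        refine ⟨a ⊗ₜ residue B b, ?_⟩
        rw [show (a ⊗ₜ[A] b : B') = algebraMap A' B' a * ιB b by simp [ιB, B'], map_mul, Algebra.TensorProduct.lift_tmul]
        rw [show ψ (residue B b) = π (ιB b) from hψ b]
        congr 1
    have : Module.Finite A kB := Module.Finite.trans (ResidueField A) kB
    have : Module.Finite A' E := Module.Finite.of_surjective Φ.toLinearMap hΦ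
    exact Module.Finite.of_restrictScalars_finite A' (ResidueField A') E
  have : Module.Flat A' L := Module.Flat.trans A' B' L
  have : Module.Flat A' D := Module.Flat.trans A' L D
  have hff : Module.FaithfullyFlat L D := Module.FaithfullyFlat.of_flat_of_isLocalHom
  have : IsLocalHom (algebraMap A' D) := by
    rw [IsScalarTower.algebraMap_eq A' L D]
    exact RingHom.isLocalHom_comp _ _
  have : Module.Finite (ResidueField A') (ResidueField D) :=
    finite_residueField_of_surjective (A := A') (B := L) (residue_comp_completion_surjective L)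
  have hclosedL : ClosedFib P A' L := fun K' _ _ hK' => by
    let _ : Algebra A K' := ((algebraMap A' K').comp (algebraMap A A')).toAlgebra
    have : IsScalarTower A A' K' := .of_algebraMap_eq fun _ => rfl
    have : Module.Finite A K' := Module.Finite.trans A' K'
    exact hP.tensor_localization A' B' L K' n.primeCompl
      (hP.iso _ _ (Algebra.TensorProduct.cancelBaseChange A A' K' K' B).symm.toRingEquiv (h K'))
  exact hP.desc_tensor A' L D K (hgen D (hP.closedFib_comp hclosedL (hP.geomFib_of_isRegularHom hLD)))

/-- All fibres from the generic fibres of smaller models. -/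
theorem Good.tensor_of_genFib (hP : Good P) {d : ℕ} (hG : GenFib P d)
    {A B : Type u} [CommRing A] [CommRing B] [IsLocalRing A] [IsNoetherianRing A]
    [IsAdicComplete (maximalIdeal A) A] [IsLocalRing B] [IsNoetherianRing B]
    [IsAdicComplete (maximalIdeal B) B] [Algebra A B] [IsLocalHom (algebraMap A B)] [Module.Flat A B]
    [Module.Finite (ResidueField A) (ResidueField B)] (h : ClosedFib P A B)
    (p : Ideal A) [p.IsPrime] (hdim : ringKrullDim (A ⧸ p) ≤ (d : WithBot ℕ∞))
    (K : Type u) [Field K] [Algebra p.ResidueField K] [Algebra A K] [IsScalarTower A p.ResidueField K]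
    [Module.Finite p.ResidueField K] : P (K ⊗[A] B) := by
  obtain ⟨A', _, _⟩ := exists_finite_model p K
  obtain ⟨_, _⟩ := NagataJac.isLocalRing_complete_of_finite (R := A) (D := A')
  have : IsNoetherianRing A' := IsNoetherianRing.of_finite A A'
  refine hP.tensor_of_model h A' K fun D _ _ _ _ _ _ _ _ hD => hG A' D K ?_ hD
  refine (ringKrullDim_le_of_isIntegral p fun a ha => ?_).trans hdim
  rw [RingHom.mem_ker]
  refine Subtype.ext ?_
  show algebraMap A K a = 0
  rw [IsScalarTower.algebraMap_apply A p.ResidueField K, Ideal.algebraMap_residueField_eq_zero.mpr ha, map_zero]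

/-- Base with principal maximal ideal. -/
theorem Good.generic_of_principal (hP : Good P) {A B : Type u} [CommRing A] [CommRing B] [IsDomain A] [IsLocalRing A]
    [IsLocalRing B] [IsNoetherianRing B] [Algebra A B] [IsLocalHom (algebraMap A B)] [Module.Flat A B]
    (π : A) (hπ : maximalIdeal A = Ideal.span {π}) (hπ0 : π ≠ 0) (h : ClosedFib P A B)
    (K : Type u) [Field K] [Algebra A K] [IsFractionRing A K] : P (K ⊗[A] B) := by
  let κ := A ⧸ maximalIdeal A
  let _ : Field κ := Ideal.Quotient.field _
  have hfin : Module.Finite A κ := Module.Finite.of_surjective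
    (Ideal.Quotient.mkₐ A (maximalIdeal A)).toLinearMap Ideal.Quotient.mk_surjective
  let x := algebraMap A B π
  have hx : x ∈ maximalIdeal B := map_nonunit (algebraMap A B) π (hπ ▸ Ideal.mem_span_singleton_self π)
  have hx0 : x ∈ nonZeroDivisors B := by
    refine mem_nonZeroDivisors_iff_right.mpr fun z hz => ?_
    have hinj : Function.Injective (LinearMap.lTensor B (LinearMap.lsmul A A π)) :=
      Module.Flat.lTensor_preserves_injective_linearMap _ fun a b hab => mul_left_cancel₀ hπ0 hab
    have h0 : z ⊗ₜ[A] (1 : A) = 0 := hinj (by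
      rw [LinearMap.lTensor_tmul, map_zero, LinearMap.lsmul_apply, TensorProduct.tmul_smul,
        TensorProduct.smul_tmul', Algebra.smul_def, mul_comm, hz, TensorProduct.zero_tmul])
    have := congrArg (TensorProduct.rid A B) h0
    rwa [TensorProduct.rid_tmul, one_smul, map_zero] at this
  have hI : (maximalIdeal A).map (algebraMap A B) = Ideal.span {x} := by
    rw [hπ, Ideal.map_span, Set.image_singleton]
  have hB : P B := hP.lift B x hx hx0 (hP.iso _ _
    (((Algebra.TensorProduct.comm A κ B).toRingEquiv.trans
      (Algebra.TensorProduct.quotIdealMapEquivTensorQuot B (maximalIdeal A)).symm.toRingEquiv).trans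
      (Ideal.quotEquivOfEq hI)) (h κ))
  have : IsLocalization (Algebra.algebraMapSubmonoid B (nonZeroDivisors A)) (B ⊗[A] K) := inferInstance
  exact hP.iso _ _ (Algebra.TensorProduct.comm A B K).toRingEquiv
    (hP.localization B (B ⊗[A] K) (Algebra.algebraMapSubmonoid B (nonZeroDivisors A)) hB)

/-- A complete local ring modulo a one-dimensional prime off the closed fibre is finite over the base. -/
theorem finite_quotient {A B : Type u} [CommRing A] [IsLocalRing A] [IsNoetherianRing A]
    [IsAdicComplete (maximalIdeal A) A] [CommRing B] [IsLocalRing B] [IsNoetherianRing B]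
    [Algebra A B] [IsLocalHom (algebraMap A B)] [Module.Finite (ResidueField A) (ResidueField B)]
    (Q : Ideal B) [Q.IsPrime] (h : ∀ Q' : Ideal B, Q'.IsPrime → Q ≤ Q' →
      (maximalIdeal A).map (algebraMap A B) ≤ Q' → Q' = maximalIdeal B) :
    Module.Finite A (B ⧸ Q) := by
  let C := B ⧸ Q
  have : IsLocalRing C := .of_surjective' (Ideal.Quotient.mk Q) Ideal.Quotient.mk_surjective
  let J := (maximalIdeal A).map (algebraMap A C)
  have hmC : maximalIdeal C = (maximalIdeal B).map (Ideal.Quotient.mk Q) :=
    (map_maximalIdeal_of_surjective _ Ideal.Quotient.mk_surjective).symm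
  have hJle : J ≤ maximalIdeal C := by
    rw [hmC, show J = ((maximalIdeal A).map (algebraMap A B)).map (Ideal.Quotient.mk Q) by
      rw [Ideal.map_map]; rfl]
    exact Ideal.map_mono (Ideal.map_le_iff_le_comap.mpr fun a ha => map_nonunit (algebraMap A B) a ha)
  obtain ⟨N, hN⟩ : ∃ N, maximalIdeal C ^ N ≤ J := by
    refine Ideal.exists_pow_le_of_le_radical_of_fg ?_ (IsNoetherian.noetherian _)
    rw [Ideal.radical_eq_sInf]
    refine le_sInf fun q ⟨hJq, hq⟩ => ?_
    have := h (q.comap (Ideal.Quotient.mk Q)) (hq.comap _) (fun z hz => by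
        rw [Ideal.mem_comap, Ideal.Quotient.eq_zero_iff_mem.mpr hz]; exact zero_mem _) (by
        refine Ideal.map_le_iff_le_comap.mpr fun a ha => ?_
        exact hJq (Ideal.mem_map_of_mem _ ha))
    rw [hmC]
    exact Ideal.map_le_iff_le_comap.mpr this.ge
  -- `C / J` is finite over `A`
  have hfin : Module.Finite A (C ⧸ J) := by
    have : Module.Finite A (ResidueField B) := Module.Finite.trans (ResidueField A) (ResidueField B)
    have hstep : ∀ i, Module.Finite A (C ⧸ (maximalIdeal C ^ i)) := by
      intro i
      induction i with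
      | zero =>
        have : Subsingleton (C ⧸ maximalIdeal C ^ 0) := by
          rw [pow_zero, Ideal.one_eq_top]; exact Ideal.Quotient.subsingleton_iff.mpr rfl
        infer_instance
      | succ i ih =>
        -- the kernel of the projection is a finite module over the residue field
        let g : (C ⧸ maximalIdeal C ^ (i + 1)) →ₗ[A] (C ⧸ maximalIdeal C ^ i) :=
          (Ideal.Quotient.factorₐ A (Ideal.pow_le_pow_right i.le_succ)).toLinearMap
        have hk : (LinearMap.ker g).FG := by
          obtain ⟨r, gen, hgen⟩ := Submodule.fg_iff_exists_fin_generating_family.mp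
            (IsNoetherian.noetherian (maximalIdeal C ^ i))
          obtain ⟨t, ht⟩ := (inferInstance : Module.Finite A (ResidueField B)).fg_top
          choose lift hlift using fun u : ResidueField B => residue_surjective u
          classical
          refine ⟨(Finset.univ ×ˢ t).image fun ju : Fin r × ResidueField B =>
            Ideal.Quotient.mk _ (Ideal.Quotient.mk Q (lift ju.2) * gen ju.1), le_antisymm ?_ ?_⟩
          · rw [Submodule.span_le]
            intro z hz
            obtain ⟨⟨j, u⟩, -, rfl⟩ := Finset.mem_image.mp (Finset.mem_coe.mp hz)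
            show Ideal.Quotient.factor (Ideal.pow_le_pow_right i.le_succ) (Ideal.Quotient.mk (maximalIdeal C ^ (i + 1)) _) = 0
            rw [Ideal.Quotient.factor_mk, Ideal.Quotient.eq_zero_iff_mem]
            exact Ideal.mul_mem_left _ _ (hgen ▸ Submodule.subset_span ⟨j, rfl⟩)
          · intro z hz
            obtain ⟨z, rfl⟩ := Ideal.Quotient.mk_surjective z
            have hz' : z ∈ maximalIdeal C ^ i := by
              have : Ideal.Quotient.factor (Ideal.pow_le_pow_right i.le_succ) (Ideal.Quotient.mk _ z) = 0 := hz
              rwa [Ideal.Quotient.factor_mk, Ideal.Quotient.eq_zero_iff_mem] at this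
            rw [← hgen, Submodule.mem_span_range_iff_exists_fun] at hz'
            obtain ⟨c, rfl⟩ := hz'
            rw [map_sum]
            refine Submodule.sum_mem _ fun j _ => ?_
            obtain ⟨b, hb⟩ := Ideal.Quotient.mk_surjective (c j)
            have hu : residue B b ∈ Submodule.span A (t : Set (ResidueField B)) := ht ▸ Submodule.mem_top
            have key : ∀ v ∈ Submodule.span A (t : Set (ResidueField B)), ∀ b, residue B b = v →
                Ideal.Quotient.mk (maximalIdeal C ^ (i + 1)) (Ideal.Quotient.mk Q b * gen j) ∈ Submodule.span A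
                  (((Finset.univ ×ˢ t).image fun ju : Fin r × ResidueField B =>
                    Ideal.Quotient.mk (maximalIdeal C ^ (i + 1)) (Ideal.Quotient.mk Q (lift ju.2) * gen ju.1) : Finset _) :
                    Set (C ⧸ maximalIdeal C ^ (i + 1))) := by
              have hwd : ∀ b b', residue B b = residue B b' →
                  Ideal.Quotient.mk (maximalIdeal C ^ (i + 1)) (Ideal.Quotient.mk Q b * gen j) =
                    Ideal.Quotient.mk _ (Ideal.Quotient.mk Q b' * gen j) := fun b b' e => by
                rw [Ideal.Quotient.eq, ← sub_mul, ← map_sub, pow_succ']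
                refine Ideal.mul_mem_mul ?_ (hgen ▸ Submodule.subset_span ⟨j, rfl⟩)
                rw [hmC]
                exact Ideal.mem_map_of_mem _ ((residue_eq_zero_iff _).mp (by rw [map_sub, e, sub_self]))
              intro v hv
              induction hv using Submodule.span_induction with
              | mem u hu =>
                intro b hb
                rw [hwd b (lift u) (hb.trans (hlift u).symm)]
                exact Submodule.subset_span (Finset.mem_coe.mpr
                  (Finset.mem_image.mpr ⟨(j, u), Finset.mem_product.mpr ⟨Finset.mem_univ _, hu⟩, rfl⟩))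
              | zero =>
                intro b hb
                rw [hwd b 0 (hb.trans (map_zero _).symm), map_zero, zero_mul, map_zero]
                exact zero_mem _
              | add u v _ _ hu hv =>
                intro b hb
                rw [hwd b (lift u + lift v) (by rw [hb, map_add, hlift, hlift]), map_add, add_mul, map_add]
                exact add_mem (hu _ (hlift u)) (hv _ (hlift v))
              | smul a u _ hu =>
                intro b hb
                rw [hwd b (algebraMap A B a * lift u) (by rw [hb, map_mul, hlift, Algebra.smul_def]; rfl),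
                  map_mul (Ideal.Quotient.mk Q), mul_assoc, map_mul, show Ideal.Quotient.mk (maximalIdeal C ^ (i + 1)) (Ideal.Quotient.mk Q (algebraMap A B a)) =
                    algebraMap A (C ⧸ maximalIdeal C ^ (i + 1)) a from rfl, ← Algebra.smul_def]
                exact Submodule.smul_mem _ _ (hu _ (hlift u))
            rw [smul_eq_mul, ← hb]
            exact key _ hu b rfl
        exact ⟨Submodule.fg_of_fg_map_of_fg_inf_ker g (by
          rw [Submodule.map_top, LinearMap.range_eq_top.mpr (Ideal.Quotient.factor_surjective (Ideal.pow_le_pow_right i.le_succ))]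
          exact ih.fg_top) (by rw [top_inf_eq]; exact hk)⟩
    exact Module.Finite.of_surjective (Ideal.Quotient.factorₐ A hN).toLinearMap (Ideal.Quotient.factor_surjective hN)
  have : IsHausdorff J C :=
    IsHausdorff.of_isLocalRing _ _ (ne_top_of_le_ne_top (maximalIdeal.isMaximal C).ne_top hJle)
  have hf : ((Ideal.Quotient.mk J).comp (algebraMap A C)).Finite := RingHom.finite_algebraMap.mpr hfin
  exact RingHom.finite_algebraMap.mp (CohenStruct.finite_of_complete (maximalIdeal A) (algebraMap A C) hf)

/-- `P` of the localisation above a prime gives `P` at the primes below it. -/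
theorem Good.atPrime_of_tensor (hP : Good P) {B T : Type u} [CommRing B] [CommRing T] [Algebra B T]
    [IsNoetherianRing T] (n : Ideal B) [n.IsPrime] (h : P (T ⊗[B] Localization.AtPrime n))
    (Q : Ideal T) [Q.IsPrime] (hQn : Q.comap (algebraMap B T) ≤ n) : P (Localization.AtPrime Q) := by
  let M := Algebra.algebraMapSubmonoid T n.primeCompl
  let Tn := T ⊗[B] Localization.AtPrime n
  have : IsLocalization M Tn := inferInstance
  have : IsNoetherianRing Tn := IsLocalization.isNoetherianRing M Tn inferInstance
  have hd : Disjoint (M : Set T) Q := Set.disjoint_left.mpr fun z hz hzQ => by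
    obtain ⟨b, hb, rfl⟩ := hz
    exact hb (hQn hzQ)
  let Q' := Q.map (algebraMap T Tn)
  have : Q'.IsPrime := IsLocalization.isPrime_of_isPrime_disjoint M Tn Q inferInstance hd
  have hQ' : Q'.under T = Q := IsLocalization.under_map_of_isPrime_disjoint M Tn ‹Q.IsPrime› hd
  have hloc := IsLocalization.isLocalization_isLocalization_atPrime_isLocalization M (Localization.AtPrime Q') Q'
  have hloc' : IsLocalization Q.primeCompl (Localization.AtPrime Q') := by
    simpa [hQ', Ideal.under_def] using hloc
  exact hP.iso _ _ (IsLocalization.algEquiv Q.primeCompl (Localization.AtPrime Q') (Localization.AtPrime Q)).toRingEquiv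
    (hP.localization Tn (Localization.AtPrime Q') Q'.primeCompl h)

/-- A local domain in which all non-zero primes contain a fixed non-zero element has dimension `≤ 1`. -/
theorem eq_maximalIdeal_of_forall_mem {C : Type u} [CommRing C] [IsDomain C] [IsLocalRing C] [IsNoetherianRing C]
    {x : C} (hx : x ≠ 0) (h : ∀ r : Ideal C, r.IsPrime → r ≠ ⊥ → x ∈ r) (r : Ideal C) [hr : r.IsPrime]
    (hr0 : r ≠ ⊥) : r = maximalIdeal C := by
  let S := (Ideal.span {x}).minimalPrimes
  have hS : S.Finite := Ideal.finite_minimalPrimes_of_isNoetherianRing C _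
  have hne : Ideal.span {x} ≠ ⊤ :=
    ne_top_of_le_ne_top hr.ne_top ((Ideal.span_singleton_le_iff_mem _).mpr (h r hr hr0))
  have hcover : (maximalIdeal C : Set C) ⊆ ⋃ s ∈ S, (s : Set C) := by
    intro z hz
    rw [Set.mem_iUnion₂]
    by_cases hz0 : z = 0
    · obtain ⟨s, hs⟩ := Ideal.nonempty_minimalPrimes hne
      exact ⟨s, hs, hz0 ▸ s.zero_mem⟩
    obtain ⟨s, hs, -⟩ := Ideal.exists_minimalPrimes_le
      ((Ideal.span_singleton_le_iff_mem _).mpr hz : Ideal.span {z} ≤ maximalIdeal C)
    have hsP : s.IsPrime := hs.1.1
    have hzs : z ∈ s := hs.1.2 (Ideal.mem_span_singleton_self z)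
    have hs0 : s ≠ ⊥ := fun e => hz0 (by rwa [e, Ideal.mem_bot] at hzs)
    obtain ⟨s', hs', hle⟩ := Ideal.exists_minimalPrimes_le
      ((Ideal.span_singleton_le_iff_mem _).mpr (h s hsP hs0) : Ideal.span {x} ≤ s)
    have hs'P : s'.IsPrime := hs'.1.1
    refine ⟨s', hs', ?_⟩
    rcases hle.eq_or_lt with e | hlt
    · exact e ▸ hzs
    exfalso
    have hs'0 : (⊥ : Ideal C) < s' := bot_lt_iff_ne_bot.mpr fun e => hx (by
      have := hs'.1.2 (Ideal.mem_span_singleton_self x)
      rwa [e, Ideal.mem_bot] at this)
    have h1 := Ideal.height_strict_mono_of_isPrime hlt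
    have h2 := Ideal.height_strict_mono_of_isPrime hs'0
    have h3 := Ideal.height_le_one_of_isPrincipal_of_mem_minimalPrimes _ _ hs
    exact not_lt_zero (h2.trans_le (ENat.lt_one_iff_eq_zero.mp (h1.trans_le h3)).le)
  obtain ⟨s, hsS, hms⟩ := (Ideal.subset_union_prime_finite hS (f := id) ⊥ ⊥ fun i hi _ _ => hi.1.1).mp hcover
  have hsP : s.IsPrime := hsS.1.1
  have hm : (maximalIdeal C).height ≤ 1 := (Ideal.height_mono hms).trans
    (Ideal.height_le_one_of_isPrincipal_of_mem_minimalPrimes _ _ hsS)
  by_contra hne'
  have h1 := Ideal.height_strict_mono_of_isPrime (lt_of_le_of_ne (le_maximalIdeal hr.ne_top) hne')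
  have h2 := Ideal.height_strict_mono_of_isPrime (bot_lt_iff_ne_bot.mpr hr0)
  exact not_lt_zero (h2.trans_le (ENat.lt_one_iff_eq_zero.mp (h1.trans_le hm)).le)

/-- The residue field at a prime with finite quotient is finite over the residue field below. -/
theorem finite_residueField_of_finite_quotient {A B : Type u} [CommRing A] [CommRing B] [Algebra A B]
    (p : Ideal A) [p.IsPrime] (Q : Ideal B) [Q.IsPrime] [Module.Finite A (B ⧸ Q)]
    [Algebra p.ResidueField Q.ResidueField] [IsScalarTower A p.ResidueField Q.ResidueField] :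
    Module.Finite p.ResidueField Q.ResidueField := by
  let κ := p.ResidueField
  let E := Q.ResidueField
  let f : B ⧸ Q →ₐ[A] E := Ideal.Quotient.liftₐ Q (IsScalarTower.toAlgHom A B E) fun b hb =>
    Ideal.algebraMap_residueField_eq_zero.mpr hb
  let Φ : κ ⊗[A] (B ⧸ Q) →ₐ[κ] E := Algebra.TensorProduct.lift (Algebra.ofId κ E) f (fun _ _ => Commute.all _ _)
  have hfR : ∀ b : B, algebraMap B E b ∈ Φ.range := fun b =>
    ⟨1 ⊗ₜ Ideal.Quotient.mk Q b, by
      show Algebra.TensorProduct.lift (Algebra.ofId κ E) f (fun _ _ => Commute.all _ _) _ = _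
      rw [Algebra.TensorProduct.lift_tmul, map_one, one_mul]
      rfl⟩
  have hRfin : Module.Finite κ Φ.range := Module.Finite.of_surjective Φ.rangeRestrict.toLinearMap
    Φ.rangeRestrict_surjective
  refine Module.Finite.of_surjective Φ.toLinearMap fun z => ?_
  obtain ⟨a, b, hb, rfl⟩ := IsFractionRing.div_surjective (A := B ⧸ Q) z
  obtain ⟨a, rfl⟩ := Ideal.Quotient.mk_surjective a
  obtain ⟨b, rfl⟩ := Ideal.Quotient.mk_surjective b
  have hinv : (algebraMap B E b)⁻¹ ∈ Φ.range := by
    refine Φ.range.inv_mem_of_algebraic (x := ⟨_, hfR b⟩) ?_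
    exact ((IsIntegral.of_finite κ (⟨_, hfR b⟩ : Φ.range)).map Φ.range.val).isAlgebraic
  have : algebraMap (B ⧸ Q) E (Ideal.Quotient.mk Q a) / algebraMap (B ⧸ Q) E (Ideal.Quotient.mk Q b) ∈ Φ.range := by
    rw [div_eq_mul_inv]
    exact mul_mem (hfR a) hinv
  exact this

theorem Good.genFib (hP : Good P) : ∀ d, GenFib P d := by
  intro d
  induction d using Nat.strong_induction_on with
  | _ d IH =>
    intro A B _ _ _ _ _ _ _ _ _ _ _ _ _ K _ _ _ hd h
    by_cases hfield : maximalIdeal A = ⊥
    · have hA : IsField A := IsLocalRing.isField_iff_maximalIdeal_eq.mpr hfield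
      have : Module.Finite A K := by
        refine Module.Finite.of_surjective (Algebra.linearMap A K) fun z => ?_
        obtain ⟨a, b, hb, rfl⟩ := IsFractionRing.div_surjective (A := A) z
        obtain ⟨c, hc⟩ := hA.mul_inv_cancel (nonZeroDivisors.ne_zero hb)
        refine ⟨a * c, ?_⟩
        have hbK : algebraMap A K b ≠ 0 :=
          (map_ne_zero_iff _ (IsFractionRing.injective A K)).mpr (nonZeroDivisors.ne_zero hb)
        rw [Algebra.linearMap_apply, eq_div_iff hbK, map_mul, mul_assoc, ← map_mul, mul_comm c b, hc, map_one, mul_one]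
      exact h K
    obtain ⟨x, hxm, hx0⟩ := (maximalIdeal A).ne_bot_iff.mp hfield
    obtain ⟨d₀, rfl⟩ : ∃ d₀, d = d₀ + 1 := by
      refine Nat.exists_eq_succ_of_ne_zero fun h0 => ?_
      subst h0
      have h1 : (maximalIdeal A).height = 0 := by
        rw [← WithBot.coe_inj, IsLocalRing.maximalIdeal_height_eq_ringKrullDim]
        exact le_antisymm (by simpa using hd) (by exact ringKrullDim_nonneg_of_nontrivial)
      rw [Ideal.height_eq_zero_iff, IsDomain.minimalPrimes_eq_singleton_bot, Set.mem_singleton_iff] at h1
      exact hfield h1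
    by_cases hd1 : ringKrullDim A ≤ 1
    · -- normalise to a discrete valuation ring
      let A' := integralClosure A K
      have : Module.Finite A A' := by
        let e : FractionRing A ≃ₐ[A] K := FractionRing.algEquiv A K
        letI : Algebra (FractionRing A) K := e.toRingEquiv.toRingHom.toAlgebra
        have : IsScalarTower A (FractionRing A) K := .of_algebraMap_eq fun a => (e.commutes a).symm
        have : Module.Finite (FractionRing A) K :=
          Module.Finite.of_surjective (Algebra.linearMap (FractionRing A) K) e.surjective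
        exact CohenStruct.isN2_of_complete A K inferInstance
      have : Algebra.IsAlgebraic A K := IsLocalization.isAlgebraic K (nonZeroDivisors A)
      have : IsFractionRing A' K := integralClosure.isFractionRing_of_algebraic fun z hz =>
        (map_eq_zero_iff _ (IsFractionRing.injective A K)).mp hz
      obtain ⟨_, _⟩ := NagataJac.isLocalRing_complete_of_finite (R := A) (D := A')
      have : IsNoetherianRing A' := IsNoetherianRing.of_finite A A'
      have hdim' : ringKrullDim A' ≤ 1 := by
        refine (ringKrullDim_le_of_isIntegral (A := A) (⊥ : Ideal A) bot_le).trans ?_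
        rw [ringKrullDim_eq_of_ringEquiv (RingEquiv.quotientBot A)]
        exact hd1
      have hA'ne : maximalIdeal A' ≠ ⊥ := fun h0 => hfield (by
        refine (Submodule.eq_bot_iff _).mpr fun a ha => ?_
        have hloc : IsLocalHom (algebraMap A A') :=
          RingHom.IsIntegral.isLocalHom (algebraMap_isIntegral_iff.mpr inferInstance) (FaithfulSMul.algebraMap_injective A A')
        have hu : ¬IsUnit (algebraMap A A' a) := fun hu => ha (isUnit_of_map_unit _ _ hu)
        have : algebraMap A A' a ∈ (⊥ : Ideal A') := h0 ▸ hu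
        exact (map_eq_zero_iff _ (FaithfulSMul.algebraMap_injective A A')).mp this)
      have : IsIntegrallyClosed A' := (isIntegrallyClosed_iff K).mpr fun {z} hz => by
        have hzA : IsIntegral A z := isIntegral_trans (R := A) (A := A') z hz
        exact ⟨⟨z, hzA⟩, rfl⟩
      have hDim1 : ∀ q : Ideal A', q ≠ ⊥ → q.IsPrime → q = maximalIdeal A' :=
        fun q hq0 hq => le_antisymm (le_maximalIdeal hq.ne_top) (by
          by_contra hlt
          have h2 : q < maximalIdeal A' := lt_of_le_not_ge (le_maximalIdeal hq.ne_top) hlt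
          have h3 : (0 : ℕ∞) < q.height := by
            have := Ideal.height_strict_mono_of_isPrime (show (⊥ : Ideal A') < q from bot_lt_iff_ne_bot.mpr hq0)
            exact lt_of_le_of_lt bot_le this
          have h4 := Ideal.height_strict_mono_of_isPrime h2
          have h5 : ((maximalIdeal A').height : WithBot ℕ∞) ≤ 1 :=
            (IsLocalRing.maximalIdeal_height_eq_ringKrullDim (R := A')).le.trans hdim'
          have h6 : (maximalIdeal A').height ≤ 1 := by exact_mod_cast h5
          have h7 : q.height < 1 := h4.trans_le h6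
          exact absurd h3 (not_lt.mpr (ENat.lt_one_iff_eq_zero.mp h7).le))
      have hprinc : (maximalIdeal A').IsPrincipal :=
        ((tfae_of_isNoetherianRing_of_isLocalRing_of_isDomain A').out 3 4 rfl rfl).mp ⟨inferInstance, hDim1⟩
      obtain ⟨π, hπ⟩ := hprinc
      exact hP.tensor_of_model h A' K fun D _ _ _ _ _ _ _ _ hD =>
        hP.generic_of_principal π hπ (fun h0 => hA'ne (by rw [hπ, h0]; simp)) hD K
    -- the generic fibre, prime by prime
    have hB : IsNoetherianRing B := inferInstance
    have : Algebra.EssFiniteType A K := Algebra.EssFiniteType.of_isLocalization K (nonZeroDivisors A)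
    let T := B ⊗[A] K
    have : IsNoetherianRing T := by
      have := isNoetherianRing_tensor A B K
      exact isNoetherianRing_of_ringEquiv _ (Algebra.TensorProduct.comm A K B).toRingEquiv
    refine hP.iso _ _ (Algebra.TensorProduct.comm A B K).toRingEquiv (hP.of_local T fun qt _ => ?_)
    have hxT : IsUnit (algebraMap B T (algebraMap A B x)) := by
      rw [← IsScalarTower.algebraMap_apply]
      have : IsUnit (algebraMap A K x) := isUnit_iff_ne_zero.mpr ((map_ne_zero_iff _ (IsFractionRing.injective A K)).mpr hx0)
      have h2 := this.map (Algebra.TensorProduct.includeRight : K →ₐ[A] T)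
      rwa [AlgHom.commutes] at h2
    let q := qt.comap (algebraMap B T)
    have hxq : algebraMap A B x ∉ q := fun hm => (Ideal.IsPrime.ne_top ‹qt.IsPrime›)
      (Ideal.eq_top_of_isUnit_mem _ hm hxT)
    obtain ⟨Q, ⟨hQp, hqQ, hxQ⟩, hQmax⟩ := (wellFounded_gt (α := Ideal B)).has_min
      {Q | Q.IsPrime ∧ q ≤ Q ∧ algebraMap A B x ∉ Q} ⟨q, inferInstance, le_rfl, hxq⟩
    have := hQp
    have : IsLocalRing (B ⧸ Q) := .of_surjective' (Ideal.Quotient.mk Q) Ideal.Quotient.mk_surjective
    have hx' : Ideal.Quotient.mk Q (algebraMap A B x) ≠ 0 := fun e => hxQ (Ideal.Quotient.eq_zero_iff_mem.mp e)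
    have hdim1 : ∀ r : Ideal (B ⧸ Q), r.IsPrime → r ≠ ⊥ → r = maximalIdeal (B ⧸ Q) := fun r hr hr0 => by
      refine eq_maximalIdeal_of_forall_mem hx' (fun r hr hr0 => ?_) r hr0
      by_contra hxr
      refine hQmax (r.comap (Ideal.Quotient.mk Q)) ⟨hr.comap _, hqQ.trans ?_, hxr⟩ (lt_of_le_of_ne ?_ ?_)
      · intro z hz; rw [Ideal.mem_comap, Ideal.Quotient.eq_zero_iff_mem.mpr hz]; exact zero_mem _
      · intro z hz; rw [Ideal.mem_comap, Ideal.Quotient.eq_zero_iff_mem.mpr hz]; exact zero_mem _
      · intro e
        refine hr0 ?_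
        rw [← Ideal.map_comap_of_surjective _ Ideal.Quotient.mk_surjective r, ← e, Ideal.map_quotient_self]
    have hfinQ : Module.Finite A (B ⧸ Q) := finite_quotient Q fun Q' hQ' hle hm => by
      let r := Q'.map (Ideal.Quotient.mk Q)
      have hker : RingHom.ker (Ideal.Quotient.mk Q) ≤ Q' := by rwa [Ideal.mk_ker]
      have hrP : r.IsPrime := Ideal.map_isPrime_of_surjective Ideal.Quotient.mk_surjective hker
      have hxr : Ideal.Quotient.mk Q (algebraMap A B x) ∈ r :=
        Ideal.mem_map_of_mem _ (hm (Ideal.mem_map_of_mem _ hxm))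
      have hr := hdim1 r hrP fun e => hx' (by rwa [e, Ideal.mem_bot] at hxr)
      have := congrArg (Ideal.comap (Ideal.Quotient.mk Q)) hr
      rw [Ideal.comap_map_of_surjective' _ Ideal.Quotient.mk_surjective, sup_eq_left.mpr hker] at this
      rw [this]
      have : IsLocalHom (Ideal.Quotient.mk Q) := IsLocalHom.of_surjective _ Ideal.Quotient.mk_surjective
      exact IsLocalRing.eq_maximalIdeal (Ideal.comap_isMaximal_of_surjective _ Ideal.Quotient.mk_surjective)
    let p := Q.comap (algebraMap A B)
    have hpm : p < maximalIdeal A :=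
      lt_of_le_of_ne (le_maximalIdeal (Ideal.IsPrime.comap _).ne_top) fun e => hxQ (e.symm ▸ hxm : x ∈ p)
    have hp0 : p ≠ ⊥ := fun e => hd1 (by
      have hinj : Function.Injective (algebraMap A (B ⧸ Q)) := (injective_iff_map_eq_zero _).mpr fun a ha => by
        have : a ∈ p := Ideal.mem_comap.mpr (Ideal.Quotient.eq_zero_iff_mem.mp (ha : Ideal.Quotient.mk Q (algebraMap A B a) = 0))
        rwa [e, Ideal.mem_bot] at this
      have : (maximalIdeal A).height ≤ (1 : ℕ) := by
        refine Ideal.height_le_iff.mpr fun r hr hrm => ?_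
        obtain ⟨R', -, hR'p, hR'⟩ := Ideal.exists_ideal_over_prime_of_isIntegral (S := B ⧸ Q) r ⊥
          (by rw [← RingHom.ker_eq_comap_bot, (RingHom.injective_iff_ker_eq_bot _).mp hinj]; exact bot_le)
        by_cases hR0 : R' = ⊥
        · subst hR0
          rw [← RingHom.ker_eq_comap_bot, (RingHom.injective_iff_ker_eq_bot _).mp hinj] at hR'
          subst hR'
          simp
        · have hR'max : R'.IsMaximal := by rw [hdim1 R' hR'p hR0]; infer_instance
          have : r.IsMaximal := hR' ▸ Ideal.isMaximal_comap_of_isIntegral_of_isMaximal R'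
          exact absurd (IsLocalRing.eq_maximalIdeal this) hrm.ne
      rw [← IsLocalRing.maximalIdeal_height_eq_ringKrullDim]
      exact_mod_cast this)
    have hdimP : ringKrullDim (A ⧸ p) ≤ (d₀ : WithBot ℕ∞) := by
      obtain ⟨z, hzp, hz0⟩ := p.ne_bot_iff.mp hp0
      have h1 := (ringKrullDim_quotient_succ_le_of_nonZeroDivisor (mem_nonZeroDivisors_of_ne_zero hz0)).trans hd
      have h2 : ringKrullDim (A ⧸ p) ≤ ringKrullDim (A ⧸ Ideal.span {z}) :=
        ringKrullDim_le_of_surjective (Ideal.Quotient.factor ((Ideal.span_singleton_le_iff_mem _).mpr hzp))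
          (Ideal.Quotient.factor_surjective _)
      have h1' := ENat.WithBot.add_one_le_natCast_iff.mp h1
      rw [Nat.cast_add, Nat.cast_one] at h1'
      exact h2.trans (ENat.WithBot.lt_add_one_iff.mp h1')
    let Ap := Localization.AtPrime p
    let BQ := Localization.AtPrime Q
    let f := Localization.localRingHom p Q (algebraMap A B) rfl
    letI algAB : Algebra Ap BQ := f.toAlgebra
    haveI : IsScalarTower A Ap BQ := IsScalarTower.of_algebraMap_eq fun a => by
      show _ = f (algebraMap A Ap a)
      rw [Localization.localRingHom_to_map, ← IsScalarTower.algebraMap_apply A B BQ]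
    haveI : IsLocalHom (algebraMap Ap BQ) := Localization.isLocalHom_localRingHom p Q (algebraMap A B) rfl
    have : Module.Flat A BQ := Module.Flat.trans A B BQ
    have : Module.Flat Ap BQ := (Module.flat_iff_of_isLocalization Ap p.primeCompl BQ).mpr inferInstance
    haveI : IsScalarTower A p.ResidueField Q.ResidueField := IsScalarTower.of_algebraMap_eq fun a => by
      show residue BQ (algebraMap A BQ a) = residue BQ (algebraMap Ap BQ (algebraMap A Ap a))
      rw [← IsScalarTower.algebraMap_apply A Ap BQ]
    have : Module.Finite (ResidueField Ap) (ResidueField BQ) := finite_residueField_of_finite_quotient p Q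
    -- closed fibre of `A_p → B_Q`
    have hclosed : ClosedFib P Ap BQ := fun K' _ _ hK' => by
      obtain ⟨alg, htow, hfin⟩ := exists_residue_algebra (A := Ap) (K := K')
      let _ : Algebra A K' := ((algebraMap Ap K').comp (algebraMap A Ap)).toAlgebra
      have : IsScalarTower A Ap K' := .of_algebraMap_eq fun _ => rfl
      let σ : p.ResidueField →+* (maximalIdeal Ap).ResidueField := algebraMap (ResidueField Ap) _
      letI := alg
      haveI := htow
      letI : Algebra p.ResidueField K' := ((algebraMap (maximalIdeal Ap).ResidueField K').comp σ).toAlgebra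
      have : IsScalarTower A p.ResidueField K' := .of_algebraMap_eq fun a => by
        show algebraMap Ap K' (algebraMap A Ap a) = _
        rw [IsScalarTower.algebraMap_apply Ap (maximalIdeal Ap).ResidueField K']
        rfl
      have : Module.Finite p.ResidueField K' := by
        have : IsScalarTower Ap p.ResidueField K' := .of_algebraMap_eq fun a => by
          rw [IsScalarTower.algebraMap_apply Ap (maximalIdeal Ap).ResidueField K']
          rfl
        exact Module.Finite.of_restrictScalars_finite Ap _ _
      have : Algebra.EssFiniteType A K' := Algebra.EssFiniteType.comp A p.ResidueField K'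
      have h1 := hP.tensor_localization A B BQ K' Q.primeCompl
        (hP.tensor_of_genFib (IH d₀ (Nat.lt_succ_self _)) h p hdimP K')
      have := IsLocalization.tensorProduct_compatibleSMul p.primeCompl Ap K' BQ
      exact hP.iso _ _ (Algebra.TensorProduct.equivOfCompatibleSMul A Ap A K' BQ).symm.toRingEquiv h1
    -- completions
    have : IsNoetherianRing BQ := IsLocalization.isNoetherianRing Q.primeCompl BQ inferInstance
    have : IsNoetherianRing Ap := IsLocalization.isNoetherianRing p.primeCompl Ap inferInstance
    have := CohenStruct.isNoetherianRing_completion Ap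
    have := CohenStruct.isNoetherianRing_completion BQ
    let Ah := EGA4.Cpl Ap
    let Bh := EGA4.Cpl BQ
    obtain ⟨alg, htow, hff⟩ := FormalFibre.exists_faithfullyFlat_cplMap (C := Ap) (D := BQ)
    letI := alg
    haveI := htow
    haveI := hff
    have : IsLocalHom (algebraMap Ah Bh) := ((local_hom_TFAE _).out 2 0).mp (by
      rw [AdicCompletion.maximalIdeal_eq_map (R := Ap), AdicCompletion.maximalIdeal_eq_map (R := BQ), Ideal.map_map,
        ← IsScalarTower.algebraMap_eq, IsScalarTower.algebraMap_eq Ap BQ (EGA4.Cpl BQ), ← Ideal.map_map]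
      exact Ideal.map_mono (((local_hom_TFAE _).out 0 2).mp ‹IsLocalHom (algebraMap Ap BQ)›))
    have : Module.Finite (ResidueField Ah) (ResidueField Bh) :=
      finite_residueField_of_surjective (A := Ap) (B := BQ) (residue_comp_completion_surjective BQ)
    have hBh : CAlg.IsRegularHom BQ Bh := (GRing17.isGRing_of_complete (A := B)).2 Q
    have hAh : CAlg.IsRegularHom Ap Ah := (GRing17.isGRing_of_complete (A := A)).2 p
    have hcl : ClosedFib P Ah Bh := hP.closedFib_of_residue (maximalIdeal Ap)
      (AdicCompletion.maximalIdeal_eq_map).symm (residue_comp_completion_surjective Ap)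
      (hP.closedFib_comp hclosed (hP.geomFib_of_isRegularHom hBh))
    have hht : ringKrullDim Ah ≤ (d₀ : WithBot ℕ∞) := by
      rw [show ringKrullDim Ah = ringKrullDim Ap from S0547.result Ap, IsLocalization.AtPrime.ringKrullDim_eq_height p Ap]
      have h1 := Ideal.height_strict_mono_of_isPrime hpm
      have h2 : ((maximalIdeal A).height : WithBot ℕ∞) ≤ ((d₀ + 1 : ℕ) : WithBot ℕ∞) :=
        IsLocalRing.maximalIdeal_height_eq_ringKrullDim.le.trans hd
      have h3 : p.height < ((d₀ + 1 : ℕ) : ℕ∞) := h1.trans_le (by exact_mod_cast h2)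
      have h4 : p.height ≤ (d₀ : ℕ∞) := by
        rw [Nat.cast_add, Nat.cast_one] at h3
        exact (ENat.lt_add_one_iff (ENat.coe_ne_top _)).mp h3
      exact_mod_cast h4
    have hfibh : GeomFib P Ah Bh := hP.geomFib_mk fun r _ L _ _ _ _ hL =>
      hP.tensor_of_genFib (IH d₀ (Nat.lt_succ_self _)) hcl r
        ((ringKrullDim_le_of_surjective _ Ideal.Quotient.mk_surjective).trans hht) L
    have : Module.Flat Ap Ah := AdicCompletion.flat_of_isNoetherian _
    have : Module.FaithfullyFlat BQ Bh := Module.FaithfullyFlat.of_flat_of_isLocalHom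
    have hfib : GeomFib P Ap BQ :=
      hP.geomFib_desc (hP.geomFib_comp (hP.geomFib_of_isRegularHom hAh) hfibh)
    -- the generic fibre of `A_p → B_Q`
    have hle : p.primeCompl ≤ nonZeroDivisors A := p.primeCompl_le_nonZeroDivisors
    letI : Algebra Ap K := (IsLocalization.lift (M := p.primeCompl) (S := Ap) (g := algebraMap A K)
      fun y => IsLocalization.map_units K (⟨y.1, hle y.2⟩ : nonZeroDivisors A)).toAlgebra
    haveI : IsScalarTower A Ap K := IsScalarTower.of_algebraMap_eq fun a => by
      show _ = IsLocalization.lift _ (algebraMap A Ap a)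
      rw [IsLocalization.lift_eq]
    have : IsDomain Ap := IsLocalization.isDomain_localization hle
    have : IsFractionRing Ap K := IsFractionRing.isFractionRing_of_isDomain_of_isLocalization p.primeCompl Ap K
    have hinjK : ∀ a ∈ (⊥ : Ideal Ap), algebraMap Ap K a = 0 := fun a ha => by
      rw [Ideal.mem_bot.mp ha, map_zero]
    letI : Algebra (⊥ : Ideal Ap).ResidueField K := (Ideal.ResidueField.lift ⊥ (algebraMap Ap K)
      (fun a ha => hinjK a ha) fun a ha => isUnit_iff_ne_zero.mpr ((map_ne_zero_iff _ (IsFractionRing.injective Ap K)).mpr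
        (fun e => ha (Ideal.mem_bot.mpr e)))).toAlgebra
    haveI : IsScalarTower Ap (⊥ : Ideal Ap).ResidueField K := IsScalarTower.of_algebraMap_eq fun a =>
      (Ideal.ResidueField.lift_algebraMap ..).symm
    haveI : Module.Finite (⊥ : Ideal Ap).ResidueField K := by
      refine Module.Finite.of_surjective (Algebra.linearMap _ K) fun z => ?_
      obtain ⟨a, b, hb, rfl⟩ := IsFractionRing.div_surjective (A := Ap) z
      refine ⟨algebraMap Ap _ a / algebraMap Ap _ b, ?_⟩
      rw [Algebra.linearMap_apply, map_div₀, ← IsScalarTower.algebraMap_apply, ← IsScalarTower.algebraMap_apply]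
    have hKB : P (K ⊗[Ap] BQ) := hP.geomFib_apply hfib ⊥ K
    have := IsLocalization.tensorProduct_compatibleSMul p.primeCompl Ap K BQ
    have hKB' : P (K ⊗[A] BQ) := hP.iso _ _ (Algebra.TensorProduct.equivOfCompatibleSMul A Ap A K BQ).toRingEquiv hKB
    refine hP.atPrime_of_tensor Q ?_ qt hqQ
    exact hP.iso _ _ (((Algebra.TensorProduct.comm B T BQ).toRingEquiv.trans
      (Algebra.TensorProduct.cancelBaseChange A B BQ BQ K).toRingEquiv).trans
      (Algebra.TensorProduct.comm A BQ K).toRingEquiv).symm hKB'

end Groth.Agent.FibreP
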